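import Mathlib
import Groth.Agent.GenericFree.Basic

/-!
# Schematically dominant families of ring maps and flat base change

`Dom φ` is the ring-theoretic form of "the family `Spec C j → Spec B` is schematically dominant".
The main result `dom_tensor_stage`: it is stable under flat base change by a finitely presented algebra.
No Noetherian hypothesis on `B` is needed: the proof is a Noetherian induction on the ideals of a
finitely generated subring over which the algebra is defined, using generic freeness.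
-/

universe u v

set_option autoImplicit false

open TensorProduct

namespace Groth.SchDom

/-- A family of ring maps is schematically dominant: on every basic open, an element which vanishes
after each map vanishes. -/
def Dom {B : Type u} [CommRing B] {J : Type v} {C : J → Type u} [∀ j, CommRing (C j)]
    (φ : ∀ j, B →+* C j) : Prop :=
  ∀ h b : B, (∀ j, ∃ n : ℕ, φ j (h ^ n * b) = 0) → ∃ N : ℕ, h ^ N * b = 0

section Core

variable {D : Type u} [CommRing D] [IsDomain D]

/-- Generic freeness core. -/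
theorem exists_kill {A' : Type u} [AddCommGroup A'] [Module D A'] (hA : GenericFree.GF D A') :
    ∃ d : D, d ≠ 0 ∧ ∀ (M : Type u) [AddCommGroup M] [Module D M] {J : Type v} (X : J → Type u)
      [∀ j, AddCommGroup (X j)] [∀ j, Module D (X j)] (ψ : ∀ j, M →ₗ[D] X j),
      (∀ m, (∀ j, ∃ n : ℕ, d ^ n • ψ j m = 0) → ∃ N : ℕ, d ^ N • m = 0) →
      ∀ z : A' ⊗[D] M, (∀ j, (ψ j).lTensor A' z = 0) → ∃ k : ℕ, d ^ k • z = 0 := by
  classical
  obtain ⟨f, hf, ι, φ, hφ, hs⟩ := hA
  refine ⟨f, hf, fun M _ _ J X _ _ ψ hψ z hz => ?_⟩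
  let S := Submonoid.powers f
  have lift : ∀ z : A' ⊗[D] M, ∃ (k : ℕ) (w : (ι →₀ D) ⊗[D] M), φ.rTensor M w = f ^ k • z := by
    intro z
    induction z using TensorProduct.induction_on with
    | zero => exact ⟨0, 0, by simp⟩
    | tmul a m =>
      obtain ⟨k, x, hx⟩ := hs a
      exact ⟨k, x ⊗ₜ m, by rw [LinearMap.rTensor_tmul, hx, smul_tmul']⟩
    | add a b ha hb =>
      obtain ⟨k, x, hx⟩ := ha
      obtain ⟨l, y, hy⟩ := hb
      refine ⟨k + l, f ^ l • x + f ^ k • y, ?_⟩
      rw [map_add, map_smul, map_smul, hx, hy, smul_smul, smul_smul, smul_add, ← pow_add, ← pow_add,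
        add_comm l k]
  obtain ⟨k, w, hw⟩ := lift z
  have hb : Function.Bijective (LocalizedModule.map S φ) := by
    refine ⟨LocalizedModule.map_injective S φ hφ, fun x => ?_⟩
    induction x using LocalizedModule.induction_on with
    | h m s =>
      obtain ⟨k, y, hy⟩ := hs m
      refine ⟨LocalizedModule.mk y (⟨f ^ k, k, rfl⟩ * s), ?_⟩
      rw [LocalizedModule.map_mk, hy, LocalizedModule.mk_eq]
      exact ⟨1, by simp [Submonoid.smul_def, smul_smul, mul_comm]⟩
  let e := (LinearEquiv.ofBijective _ hb).restrictScalars D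
  let ℓF := LocalizedModule.mkLinearMap S (ι →₀ D)
  let ℓA := LocalizedModule.mkLinearMap S A'
  have hsq : e.toLinearMap ∘ₗ ℓF = ℓA ∘ₗ φ := by
    refine LinearMap.ext fun x => ?_
    exact LocalizedModule.map_mk _ _ _ _
  have comp_zero : ∀ j, ∃ n : ℕ, f ^ n • (ψ j).lTensor (ι →₀ D) w = 0 := by
    intro j
    have h1 : φ.rTensor (X j) ((ψ j).lTensor (ι →₀ D) w) = 0 := by
      have : φ.rTensor (X j) ((ψ j).lTensor (ι →₀ D) w) = (ψ j).lTensor A' (φ.rTensor M w) := by
        rw [← LinearMap.comp_apply, LinearMap.rTensor_comp_lTensor, ← LinearMap.lTensor_comp_rTensor,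
          LinearMap.comp_apply]
      rw [this, hw, map_smul, hz j, smul_zero]
    have h2 : ℓF.rTensor (X j) ((ψ j).lTensor (ι →₀ D) w) = 0 := by
      apply (e.rTensor (X j)).injective
      rw [map_zero]
      show e.toLinearMap.rTensor (X j) (ℓF.rTensor (X j) _) = 0
      rw [← LinearMap.comp_apply, ← LinearMap.rTensor_comp, hsq, LinearMap.rTensor_comp,
        LinearMap.comp_apply, h1, map_zero]
    have hloc : IsLocalizedModule S (AlgebraTensorModule.rTensor D (X j) ℓF) := inferInstance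
    obtain ⟨⟨_, n, rfl⟩, hn⟩ := (IsLocalizedModule.eq_zero_iff S (AlgebraTensorModule.rTensor D (X j) ℓF)).1 h2
    exact ⟨n, hn⟩
  let E := TensorProduct.finsuppScalarLeft D M ι
  let m : ι →₀ M := E w
  have hm : ∀ i, ∃ N : ℕ, f ^ N • m i = 0 := fun i => hψ _ fun j => by
    obtain ⟨n, hn⟩ := comp_zero j
    refine ⟨n, ?_⟩
    have hc : (TensorProduct.finsuppScalarLeft D (X j) ι) ((ψ j).lTensor (ι →₀ D) w) i = ψ j (m i) := by
      have : ∀ w' : (ι →₀ D) ⊗[D] M, (TensorProduct.finsuppScalarLeft D (X j) ι) ((ψ j).lTensor (ι →₀ D) w') i =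
          ψ j (TensorProduct.finsuppScalarLeft D M ι w' i) := by
        intro w'
        induction w' using TensorProduct.induction_on with
        | zero => simp
        | tmul a b => simp
        | add a b ha hb => simp only [map_add, Finsupp.add_apply, ha, hb]
      exact this w
    rw [← hc, ← Finsupp.smul_apply, ← map_smul, hn, map_zero, Finsupp.zero_apply]
  choose N hN using hm
  let N₀ := m.support.sup N
  have hw0 : f ^ N₀ • w = 0 := by
    apply E.injective
    rw [map_smul, map_zero]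
    ext i
    rw [Finsupp.smul_apply, Finsupp.zero_apply]
    by_cases hi : i ∈ m.support
    · obtain ⟨c, hc⟩ := Nat.exists_eq_add_of_le (Finset.le_sup (f := N) hi)
      show f ^ N₀ • m i = 0
      rw [show N₀ = c + N i by omega, pow_add, mul_smul, hN i, smul_zero]
    · show f ^ N₀ • m i = 0
      rw [Finsupp.notMem_support_iff.1 hi, smul_zero]
  refine ⟨N₀ + k, ?_⟩
  rw [pow_add, mul_smul, ← hw, ← map_smul, hw0, map_zero]

end Core

section Flat

variable {B₀ : Type u} [CommRing B₀] (A₀ : Type u) [CommRing A₀] [Algebra B₀ A₀]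
  {B : Type u} [CommRing B] [Algebra B₀ B] [Module.Flat B (B ⊗[B₀] A₀)]
  {N₁ N₂ N₃ : Type u} [AddCommGroup N₁] [Module B N₁] [Module B₀ N₁] [IsScalarTower B₀ B N₁]
  [AddCommGroup N₂] [Module B N₂] [Module B₀ N₂] [IsScalarTower B₀ B N₂]
  [AddCommGroup N₃] [Module B N₃] [Module B₀ N₃] [IsScalarTower B₀ B N₃]

/-- `A₀ ⊗[B₀] -` as a base change of `B ⊗[B₀] A₀`. -/
noncomputable def swapEquiv (N : Type u) [AddCommGroup N] [Module B N] [Module B₀ N] [IsScalarTower B₀ B N] :
    N ⊗[B] (B ⊗[B₀] A₀) ≃ₗ[B₀] A₀ ⊗[B₀] N :=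
  ((AlgebraTensorModule.cancelBaseChange B₀ B B N A₀).restrictScalars B₀).trans (TensorProduct.comm B₀ N A₀)

omit [Module.Flat B (B ⊗[B₀] A₀)] in
theorem swapEquiv_natural (f : N₁ →ₗ[B] N₂) (x : N₁ ⊗[B] (B ⊗[B₀] A₀)) :
    swapEquiv A₀ N₂ (f.rTensor _ x) = (f.restrictScalars B₀).lTensor A₀ (swapEquiv A₀ N₁ x) := by
  induction x using TensorProduct.induction_on with
  | zero => simp
  | add a b ha hb => simp only [map_add, ha, hb]
  | tmul n y =>
    induction y using TensorProduct.induction_on with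
    | zero => simp
    | add a b ha hb => simp only [tmul_add, map_add, ha, hb]
    | tmul b a => simp [swapEquiv]

theorem lTensor_injective (f : N₁ →ₗ[B] N₂) (hf : Function.Injective f) :
    Function.Injective ((f.restrictScalars B₀).lTensor A₀) := by
  intro x y hxy
  apply (swapEquiv (B := B) A₀ N₁).symm.injective
  apply Module.Flat.rTensor_preserves_injective_linearMap (M := B ⊗[B₀] A₀) f hf
  apply (swapEquiv (B := B) A₀ N₂).injective
  rw [swapEquiv_natural, swapEquiv_natural, LinearEquiv.apply_symm_apply, LinearEquiv.apply_symm_apply, hxy]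

theorem lTensor_exact (f : N₁ →ₗ[B] N₂) (g : N₂ →ₗ[B] N₃) (hfg : Function.Exact f g) {y : A₀ ⊗[B₀] N₂}
    (hy : (g.restrictScalars B₀).lTensor A₀ y = 0) : ∃ x, (f.restrictScalars B₀).lTensor A₀ x = y := by
  have h := Module.Flat.rTensor_exact (M := B ⊗[B₀] A₀) hfg
  obtain ⟨y', rfl⟩ := (swapEquiv (B := B) A₀ N₂).surjective y
  rw [← swapEquiv_natural, EmbeddingLike.map_eq_zero_iff] at hy
  obtain ⟨x, hx⟩ := (h y').1 hy
  exact ⟨swapEquiv A₀ N₁ x, by rw [← swapEquiv_natural, hx]⟩

end Flat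

section Stage

variable {B₀ : Type u} [CommRing B₀] [IsNoetherianRing B₀] {A₀ : Type u} [CommRing A₀] [Algebra B₀ A₀]
  [Algebra.FiniteType B₀ A₀] {B : Type u} [CommRing B] [Algebra B₀ B] [Module.Flat B (B ⊗[B₀] A₀)]
  {J : Type v} {C : J → Type u} [∀ j, CommRing (C j)] [∀ j, Algebra B₀ (C j)] (φ : ∀ j, B →ₐ[B₀] C j)

omit [IsNoetherianRing B₀] [Algebra.FiniteType B₀ A₀] [Module.Flat B (B ⊗[B₀] A₀)] in
theorem killed_smul (h : A₀) {y : A₀ ⊗[B₀] B}
    (hy : ∀ j, ∃ n : ℕ, (φ j).toLinearMap.lTensor A₀ (h ^ n • y) = 0) (k : ℕ) (b : B₀) :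
    ∀ j, ∃ n : ℕ, (φ j).toLinearMap.lTensor A₀ (h ^ n • h ^ k • b • y) = 0 := fun j => by
  obtain ⟨n, hn⟩ := hy j
  refine ⟨n, ?_⟩
  have e : h ^ n • h ^ k • b • y = b • h ^ k • h ^ n • y := by
    rw [smul_comm (h ^ k) b y, smul_comm (h ^ n) b, smul_comm (h ^ n) (h ^ k)]
  rw [e, map_smul]
  show b • (AlgebraTensorModule.lTensor A₀ A₀ (φ j).toLinearMap) (h ^ k • h ^ n • y) = 0
  rw [map_smul]
  show b • h ^ k • (φ j).toLinearMap.lTensor A₀ (h ^ n • y) = 0
  rw [hn, smul_zero, smul_zero]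

set_option maxHeartbeats 1600000 in
set_option synthInstance.maxHeartbeats 200000 in
/-- Schematic dominance survives flat base change to a stage. -/
theorem dom_tensor_stage (hφ : Dom fun j => (φ j).toRingHom) (h : A₀) (y : A₀ ⊗[B₀] B)
    (hy : ∀ j, ∃ n : ℕ, (φ j).toLinearMap.lTensor A₀ (h ^ n • y) = 0) : ∃ N : ℕ, h ^ N • y = 0 := by
  suffices H : ∀ I : Ideal B₀, ∀ y : A₀ ⊗[B₀] B, (∀ x ∈ I, x • y = 0) →
      (∀ j, ∃ n : ℕ, (φ j).toLinearMap.lTensor A₀ (h ^ n • y) = 0) → ∃ N : ℕ, h ^ N • y = 0 from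
    H ⊥ y (fun x hx => by rw [Ideal.mem_bot.1 hx, zero_smul]) hy
  intro I
  induction I using (IsWellFounded.wf : WellFounded (α := Ideal B₀) (· > ·)).induction with
  | _ I IH =>
  intro y hIy hy
  by_cases htop : I = ⊤
  · exact ⟨0, by rw [pow_zero, one_smul, ← one_smul B₀ y, hIy 1 (htop ▸ trivial)]⟩
  by_cases hprime : I.IsPrime
  swap
  · obtain ⟨a, b, hab, ha, hb⟩ : ∃ a b, a * b ∈ I ∧ a ∉ I ∧ b ∉ I := by
      by_contra hcon
      push Not at hcon
      exact hprime ⟨htop, fun {x y} hxy => or_iff_not_imp_left.2 (hcon x y hxy)⟩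
    have hlt : ∀ {a : B₀}, a ∉ I → I < I ⊔ Ideal.span {a} := fun {a} ha =>
      lt_of_le_of_ne le_sup_left fun e => ha (e ▸ Ideal.mem_sup_right (Ideal.mem_span_singleton_self a))
    have kill : ∀ {a : B₀} {z : A₀ ⊗[B₀] B}, (∀ x ∈ I, x • z = 0) → a • z = 0 →
        ∀ x ∈ I ⊔ Ideal.span {a}, x • z = 0 := by
      intro a z hz haz x hx
      obtain ⟨p, hp, q, hq, rfl⟩ := Submodule.mem_sup.1 hx
      obtain ⟨c, rfl⟩ := Ideal.mem_span_singleton'.1 hq
      rw [add_smul, hz p hp, mul_smul, haz, smul_zero, add_zero]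
    obtain ⟨N, hN⟩ := IH _ (hlt ha) (b • y)
      (kill (fun x hx => by rw [smul_comm, hIy x hx, smul_zero]) (by rw [smul_smul]; exact hIy _ hab))
      (fun j => by simpa using killed_smul φ h hy 0 b j)
    obtain ⟨N', hN'⟩ := IH _ (hlt hb) (h ^ N • y)
      (kill (fun x hx => by rw [smul_comm, hIy x hx, smul_zero]) (by rw [smul_comm]; exact hN))
      (fun j => by simpa using killed_smul φ h hy N 1 j)
    exact ⟨N' + N, by rw [pow_add, mul_smul]; exact hN'⟩
  -- the prime case
  classical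
  obtain ⟨r, x, hx⟩ : ∃ (r : ℕ) (x : Fin r → B₀), Ideal.span (Set.range x) = I :=
    Submodule.fg_iff_exists_fin_generating_family.1 (IsNoetherian.noetherian I)
  let D := B₀ ⧸ I
  -- torsion submodules
  let tor : ∀ (X : Type u) [AddCommGroup X] [Module B X] [Module B₀ X] [IsScalarTower B₀ B X], Submodule B X :=
    fun X _ _ _ _ =>
      { carrier := {m | ∀ p ∈ I, p • m = 0}
        add_mem' := fun {a b} ha hb p hp => by rw [smul_add, ha p hp, hb p hp, add_zero]
        zero_mem' := fun p _ => smul_zero p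
        smul_mem' := fun c {m} hm p hp => by rw [smul_comm, hm p hp, smul_zero] }
  letI : ∀ j, Algebra B (C j) := fun j => (φ j).toRingHom.toAlgebra
  haveI : ∀ j, IsScalarTower B₀ B (C j) := fun j =>
    IsScalarTower.of_algebraMap_eq fun c => ((φ j).commutes c).symm
  let M := tor B
  let Mc := fun j => tor (C j)
  let mulx : B →ₗ[B] (Fin r → B) := LinearMap.pi fun l => algebraMap B₀ B (x l) • LinearMap.id
  have hexact : Function.Exact M.subtype mulx := by
    intro b
    refine ⟨fun hb => ⟨⟨b, fun p hp => ?_⟩, rfl⟩, ?_⟩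
    · rw [← hx] at hp
      induction hp using Submodule.span_induction with
      | mem q hq =>
        obtain ⟨l, rfl⟩ := hq
        simpa [mulx, Algebra.smul_def] using congrFun hb l
      | zero => exact zero_smul _ _
      | add p q _ _ hp hq => rw [add_smul, hp, hq, add_zero]
      | smul c q _ hq => rw [smul_eq_mul, mul_smul, hq, smul_zero]
    · rintro ⟨⟨b, hb⟩, rfl⟩
      funext l
      simpa [mulx, Algebra.smul_def] using hb (x l) (hx ▸ Ideal.subset_span ⟨l, rfl⟩)
  obtain ⟨z, rfl⟩ := lTensor_exact A₀ M.subtype mulx hexact (y := y) (by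
    apply (TensorProduct.piRight B₀ B₀ A₀ fun _ : Fin r => B).injective
    rw [map_zero]
    funext l
    have e : ∀ t : A₀ ⊗[B₀] B,
        TensorProduct.piRight B₀ B₀ A₀ (fun _ : Fin r => B) ((mulx.restrictScalars B₀).lTensor A₀ t) l = x l • t := by
      intro t
      induction t using TensorProduct.induction_on with
      | zero => simp
      | add a b ha hb => simp only [map_add, Pi.add_apply, smul_add, ha, hb]
      | tmul a b =>
        rw [← tmul_smul]
        simp [mulx, Algebra.smul_def]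
    rw [e, Pi.zero_apply]
    exact hIy _ (hx ▸ Ideal.subset_span ⟨l, rfl⟩))
  -- the generic freeness step
  let Ah := Localization.Away h
  let A' := D ⊗[B₀] Ah
  haveI : Algebra.FiniteType A₀ Ah := IsLocalization.finiteType_of_monoid_fg (Submonoid.powers h) Ah
  haveI : Algebra.FiniteType B₀ Ah := Algebra.FiniteType.trans (S := A₀) inferInstance inferInstance
  obtain ⟨d, hd, hkill⟩ := exists_kill.{u, v} (GenericFree.gf_of_finiteType (R := D) A' A')
  letI : Module D M := Module.IsTorsionBySet.module (M := M) (I := I) fun m p => Subtype.ext (m.2 p.1 p.2)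
  letI : ∀ j, Module D (Mc j) := fun j =>
    Module.IsTorsionBySet.module (M := Mc j) (I := I) fun m p => Subtype.ext (m.2 p.1 p.2)
  haveI : IsScalarTower B₀ D M := IsScalarTower.of_algebraMap_smul fun _ _ => rfl
  haveI : ∀ j, IsScalarTower B₀ D (Mc j) := fun j => IsScalarTower.of_algebraMap_smul fun _ _ => rfl
  let ψ₀ : ∀ j, M →ₗ[B] Mc j := fun j => ((Algebra.linearMap B (C j)) ∘ₗ M.subtype).codRestrict _ fun m p hp => by
    show p • φ j m.1 = 0
    rw [← map_smul, m.2 p hp, map_zero]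
  have hsurj : Function.Surjective (algebraMap B₀ D) := Ideal.Quotient.mk_surjective
  let ψ : ∀ j, M →ₗ[D] Mc j := fun j =>
    LinearMap.extendScalarsOfSurjective hsurj ((ψ₀ j).restrictScalars B₀)
  obtain ⟨a, rfl⟩ := hsurj d
  have hfib : ∀ m : M, (∀ j, ∃ n : ℕ, algebraMap B₀ D a ^ n • ψ j m = 0) → ∃ N : ℕ, algebraMap B₀ D a ^ N • m = 0 := by
    intro m hm
    obtain ⟨N, hN⟩ := hφ (algebraMap B₀ B a) m.1 fun j => by
      obtain ⟨n, hn⟩ := hm j
      refine ⟨n, ?_⟩
      rw [← map_pow, algebraMap_smul] at hn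
      have := congrArg Subtype.val hn
      show φ j (algebraMap B₀ B a ^ n * m.1) = 0
      rw [← map_pow, ← Algebra.smul_def, map_smul]
      exact this
    refine ⟨N, ?_⟩
    rw [← map_pow, algebraMap_smul]
    apply Subtype.ext
    rw [Submodule.coe_smul_of_tower, Algebra.smul_def, map_pow]
    exact hN
  -- `A₀ ⊗ M → A' ⊗[D] M`
  let loc : A₀ →ₗ[A₀] Ah := Algebra.linearMap A₀ Ah
  let toA' : ∀ (X : Type u) [AddCommGroup X] [Module B₀ X] [Module D X] [IsScalarTower B₀ D X],
      Ah ⊗[B₀] X ≃ₗ[B₀] A' ⊗[D] X := fun X _ _ _ _ =>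
    ((TensorProduct.comm B₀ Ah X).trans
      ((AlgebraTensorModule.cancelBaseChange B₀ D D X Ah).restrictScalars B₀).symm).trans
      ((TensorProduct.comm D X A').restrictScalars B₀)
  have toA'_tmul : ∀ (X : Type u) [AddCommGroup X] [Module B₀ X] [Module D X] [IsScalarTower B₀ D X] (t : Ah) (v : X),
      toA' X (t ⊗ₜ v) = ((1 : D) ⊗ₜ t) ⊗ₜ v := fun X _ _ _ _ t v => by
    simp [toA']
  let z₁ := (loc.restrictScalars B₀).rTensor M z
  have hz : ∀ j, (ψ j).lTensor A' (toA' M z₁) = 0 := by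
    intro j
    obtain ⟨n, hn⟩ := hy j
    have h1 : (AlgebraTensorModule.lTensor A₀ A₀ ((ψ₀ j).restrictScalars B₀)) (h ^ n • z) = 0 := by
      apply lTensor_injective A₀ (Mc j).subtype Subtype.val_injective
      rw [map_zero, ← hn]
      clear hn hy hIy z₁
      generalize h ^ n = c
      induction z using TensorProduct.induction_on with
      | zero => simp
      | tmul a b => simp [smul_tmul', ψ₀]; rfl
      | add a b ha hb => simp only [map_add, smul_add, ha, hb]
    have h2 : (loc.restrictScalars B₀).rTensor (Mc j) (((ψ₀ j).restrictScalars B₀).lTensor A₀ z) = 0 := by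
      have hu : IsUnit (algebraMap A₀ Ah (h ^ n)) := by
        rw [map_pow]; exact (IsLocalization.Away.algebraMap_isUnit h).pow n
      apply hu.smul_eq_zero.1
      rw [algebraMap_smul]
      show h ^ n • (AlgebraTensorModule.rTensor B₀ (Mc j) loc) ((AlgebraTensorModule.lTensor A₀ A₀ ((ψ₀ j).restrictScalars B₀)) z) = 0
      rw [← map_smul, ← map_smul, h1, map_zero]
    have e : ∀ t : A₀ ⊗[B₀] M, (ψ j).lTensor A' (toA' M ((loc.restrictScalars B₀).rTensor M t)) =
        toA' (Mc j) ((loc.restrictScalars B₀).rTensor (Mc j) (((ψ₀ j).restrictScalars B₀).lTensor A₀ t)) := by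
      intro t
      induction t using TensorProduct.induction_on with
      | zero => simp
      | tmul a b => simp [toA'_tmul, ψ]
      | add a b ha hb => simp only [map_add, ha, hb]
    rw [e, h2, map_zero]
  obtain ⟨k, hk⟩ := hkill M (fun j => Mc j) ψ hfib (toA' M z₁) hz
  rw [← map_pow, algebraMap_smul, ← map_smul, EmbeddingLike.map_eq_zero_iff] at hk
  have hz2 : (AlgebraTensorModule.rTensor B₀ M loc) (a ^ k • z) = 0 := by
    refine Eq.trans ?_ hk
    show (loc.restrictScalars B₀).rTensor M (a ^ k • z) = a ^ k • z₁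
    rw [map_smul]
  haveI : IsLocalizedModule (Submonoid.powers h) loc := inferInstanceAs
    (IsLocalizedModule (Submonoid.powers h) (Algebra.linearMap A₀ (Localization.Away h)))
  obtain ⟨⟨_, l, rfl⟩, hl⟩ := (IsLocalizedModule.eq_zero_iff (Submonoid.powers h)
    (AlgebraTensorModule.rTensor B₀ M loc)).1 hz2
  change h ^ l • a ^ k • z = 0 at hl
  have hak : a ^ k ∉ I := fun hc => hd (Ideal.Quotient.eq_zero_iff_mem.2 (hprime.mem_of_pow_mem k hc))
  obtain ⟨N, hN⟩ := IH (I ⊔ Ideal.span {a ^ k})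
    (lt_of_le_of_ne le_sup_left fun e => hak (e ▸ Ideal.mem_sup_right (Ideal.mem_span_singleton_self _)))
    (h ^ l • (M.subtype.restrictScalars B₀).lTensor A₀ z) (fun p hp => by
      obtain ⟨p₀, hp₀, q, hq, rfl⟩ := Submodule.mem_sup.1 hp
      obtain ⟨c, rfl⟩ := Ideal.mem_span_singleton'.1 hq
      have : (M.subtype.restrictScalars B₀).lTensor A₀ (h ^ l • a ^ k • z) =
          h ^ l • a ^ k • (M.subtype.restrictScalars B₀).lTensor A₀ z := by
        show AlgebraTensorModule.lTensor A₀ A₀ (M.subtype.restrictScalars B₀) _ = _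
        rw [map_smul]
        exact congrArg (h ^ l • ·) (LinearMap.map_smul_of_tower _ _ _)
      rw [hl, map_zero] at this
      rw [add_smul, smul_comm p₀, hIy p₀ hp₀, smul_zero, zero_add, mul_smul, smul_comm (a ^ k), ← this, smul_zero])
    (fun j => by simpa using killed_smul φ h hy l 1 j)
  exact ⟨N + l, by rw [pow_add, mul_smul]; exact hN⟩

end Stage

end Groth.SchDom
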