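import Mathlib
import Groth.Agent.SchDom.Alg

/-!
# Schematic dominance: flat base change, base change over a field, the fibrewise criterion
-/

universe u v

set_option autoImplicit false

open TensorProduct

namespace Groth.SchDom

theorem Dom.of_injective {B B' : Type u} [CommRing B] [CommRing B'] {J : Type v} {C C' : J → Type u}
    [∀ j, CommRing (C j)] [∀ j, CommRing (C' j)] {φ : ∀ j, B →+* C j} {φ' : ∀ j, B' →+* C' j}
    (hφ : Dom φ) (g : B' →+* B) (hg : Function.Injective g) (g' : ∀ j, C' j →+* C j)
    (hcomm : ∀ j b, φ j (g b) = g' j (φ' j b)) : Dom φ' := by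
  intro h b hb
  obtain ⟨N, hN⟩ := hφ (g h) (g b) fun j => by
    obtain ⟨n, hn⟩ := hb j
    exact ⟨n, by rw [← map_pow, ← map_mul, hcomm, hn, map_zero]⟩
  exact ⟨N, hg (by rw [map_mul, map_pow, hN, map_zero])⟩

section StageEquiv

variable {B₀ : Type u} [CommRing B₀] [IsNoetherianRing B₀] {A₀ : Type u} [CommRing A₀] [Algebra B₀ A₀]
  [Algebra.FiniteType B₀ A₀] {B : Type u} [CommRing B] [Algebra B₀ B]

omit [IsNoetherianRing B₀] [Algebra.FiniteType B₀ A₀] in
theorem comm_smul (c : A₀) (t : A₀ ⊗[B₀] B) :
    TensorProduct.comm B₀ A₀ B (c • t) = ((1 : B) ⊗ₜ c) * TensorProduct.comm B₀ A₀ B t := by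
  induction t using TensorProduct.induction_on with
  | zero => simp
  | tmul a b => simp [smul_tmul']
  | add a b ha hb => simp only [smul_add, map_add, mul_add, ha, hb]

omit [IsNoetherianRing B₀] [Algebra.FiniteType B₀ A₀] in
theorem lTensor_algebraMap_eq {C : Type u} [CommRing C] [Algebra B₀ C] [Algebra B C] [IsScalarTower B₀ B C]
    (t : A₀ ⊗[B₀] B) :
    (IsScalarTower.toAlgHom B₀ B C).toLinearMap.lTensor A₀ t =
      swapEquiv A₀ C ((1 : C) ⊗ₜ[B] TensorProduct.comm B₀ A₀ B t) := by
  induction t using TensorProduct.induction_on with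
  | zero => simp
  | tmul a b => simp [swapEquiv, Algebra.smul_def]
  | add a b ha hb => simp only [map_add, tmul_add, ha, hb]

set_option maxHeartbeats 800000 in
set_option synthInstance.maxHeartbeats 200000 in
theorem dom_stage_equiv {J : Type v} {C : J → Type u} [∀ j, CommRing (C j)]
    [∀ j, Algebra B₀ (C j)] [∀ j, Algebra B (C j)] [∀ j, IsScalarTower B₀ B (C j)]
    (hφ : Dom fun j => algebraMap B (C j)) {A : Type u} [CommRing A] [Algebra B A] [Module.Flat B A]
    (e : B ⊗[B₀] A₀ ≃ₐ[B] A) (h₀ : A₀) (y : A)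
    (hy : ∀ j, ∃ n : ℕ, ((e (1 ⊗ₜ h₀)) ^ n * y) ⊗ₜ[B] (1 : C j) = 0) :
    ∃ N : ℕ, (e (1 ⊗ₜ h₀)) ^ N * y = 0 := by
  haveI : Module.Flat B (B ⊗[B₀] A₀) := Module.Flat.of_linearEquiv e.toLinearEquiv
  let y₀ : A₀ ⊗[B₀] B := (TensorProduct.comm B₀ A₀ B).symm (e.symm y)
  have hy₀ : ∀ n : ℕ, TensorProduct.comm B₀ A₀ B (h₀ ^ n • y₀) = e.symm ((e (1 ⊗ₜ h₀)) ^ n * y) := fun n => by
    rw [comm_smul, LinearEquiv.apply_symm_apply, map_mul, map_pow, AlgEquiv.symm_apply_apply,
      Algebra.TensorProduct.tmul_pow, one_pow]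
  obtain ⟨N, hN⟩ := dom_tensor_stage (fun j => IsScalarTower.toAlgHom B₀ B (C j)) hφ h₀ y₀ fun j => by
    obtain ⟨n, hn⟩ := hy j
    refine ⟨n, ?_⟩
    have h1 : ((1 : C j) ⊗ₜ[B] e.symm ((e (1 ⊗ₜ h₀)) ^ n * y)) = 0 := by
      have := congrArg (TensorProduct.comm B (B ⊗[B₀] A₀) (C j)) (congrArg (e.symm.toLinearMap.rTensor (C j)) hn)
      simpa using this
    rw [lTensor_algebraMap_eq, hy₀, h1, map_zero]
  refine ⟨N, ?_⟩
  have := congrArg (TensorProduct.comm B₀ A₀ B) hN
  rw [hy₀, map_zero] at this
  exact e.symm.injective (by rw [this, map_zero])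

end StageEquiv

/-- Flat finitely presented base change. -/
theorem Dom.tensor_flat {B : Type u} [CommRing B] {J : Type v} {C : J → Type u} [∀ j, CommRing (C j)]
    [∀ j, Algebra B (C j)] (hφ : Dom fun j => algebraMap B (C j))
    (A : Type u) [CommRing A] [Algebra B A] [Algebra.FinitePresentation B A] [Module.Flat B A] :
    Dom fun j => (Algebra.TensorProduct.includeLeftRingHom : A →+* A ⊗[B] C j) := by
  intro h y hy
  let P := Algebra.Presentation.ofFinitePresentation B A
  obtain ⟨hl, hhl⟩ := P.algebraMap_surjective h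
  let coe : Set B := P.coeffs ∪ (hl.coeffs : Set B)
  have hfin : coe.Finite := P.finite_coeffs.union (Finset.finite_toSet _)
  let B₀ : Subalgebra ℤ B := Algebra.adjoin ℤ coe
  haveI : Algebra.FiniteType ℤ B₀ := .adjoin_of_finite hfin
  haveI : IsNoetherianRing B₀ := Algebra.FiniteType.isNoetherianRing ℤ B₀
  haveI : P.HasCoeffs B₀ := ⟨fun x hx => ⟨⟨x, Algebra.subset_adjoin (Or.inl hx)⟩, rfl⟩⟩
  let A₀ := P.ModelOfHasCoeffs B₀
  let e := P.tensorModelOfHasCoeffsEquiv B₀
  obtain ⟨p₀, hp₀⟩ : hl ∈ Set.range (MvPolynomial.map (algebraMap B₀ B)) := by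
    rw [MvPolynomial.mem_range_map_iff_coeffs_subset]
    intro x hx
    exact ⟨⟨x, Algebra.subset_adjoin (Or.inr hx)⟩, rfl⟩
  let h₀ : A₀ := Ideal.Quotient.mk _ p₀
  have hh₀ : e (1 ⊗ₜ h₀) = h := by
    show P.tensorModelOfHasCoeffsEquiv B₀ (1 ⊗ₜ Ideal.Quotient.mk _ p₀) = h
    rw [Algebra.Presentation.tensorModelOfHasCoeffsEquiv_tmul, map_one, one_mul,
      ← MvPolynomial.aeval_map_algebraMap B, hp₀, ← Algebra.Generators.algebraMap_apply, hhl]
  obtain rfl := hh₀
  exact dom_stage_equiv (C := C) hφ e h₀ y hy

section Field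

variable {k : Type u} [Field k] {B : Type u} [CommRing B] [Algebra k B] {J : Type v} {C : J → Type u}
  [∀ j, CommRing (C j)] [∀ j, Algebra k (C j)] (φ : ∀ j, B →ₐ[k] C j)

/-- Over a field every base change preserves schematic dominance. -/
theorem Dom.tensor_field (hφ : Dom fun j => (φ j).toRingHom) (R : Type u) [CommRing R] [Algebra k R] :
    Dom fun j => (Algebra.TensorProduct.map (φ j) (AlgHom.id k R)).toRingHom := by
  intro h y hy
  classical
  obtain ⟨P₁, hP₁, hh⟩ := TensorProduct.exists_finite_submodule_right_of_setFinite (R := k) (M := B) (N := R)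
    {h, y} (Set.toFinite _)
  obtain ⟨s, hs⟩ := Module.Finite.iff_fg.1 hP₁
  let R' : Subalgebra k R := Algebra.adjoin k (s : Set R)
  haveI : Algebra.FiniteType k R' := .adjoin_of_finite s.finite_toSet
  haveI : Algebra.FinitePresentation k R' := Algebra.FinitePresentation.of_finiteType.1 inferInstance
  have hle : P₁ ≤ Subalgebra.toSubmodule R' := by
    rw [← hs, Submodule.span_le]
    exact Algebra.subset_adjoin
  let incl : B ⊗[k] R' →ₐ[k] B ⊗[k] R := Algebra.TensorProduct.map (AlgHom.id k B) R'.val
  have lift : ∀ t ∈ ({h, y} : Set (B ⊗[k] R)), ∃ t', incl t' = t := by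
    intro t ht
    obtain ⟨t₁, rfl⟩ := hh ht
    refine ⟨(Submodule.inclusion hle).lTensor B t₁, ?_⟩
    clear ht
    induction t₁ using TensorProduct.induction_on with
    | zero => simp
    | tmul a b => simp [incl]
    | add a b ha hb => simp only [map_add, ha, hb]
  obtain ⟨h', rfl⟩ := lift h (Or.inl rfl)
  obtain ⟨y', rfl⟩ := lift y (Or.inr rfl)
  letI : ∀ j, Algebra B (C j) := fun j => (φ j).toRingHom.toAlgebra
  haveI : ∀ j, IsScalarTower k B (C j) := fun j => IsScalarTower.of_algebraMap_eq fun c => ((φ j).commutes c).symm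
  obtain ⟨N, hN⟩ := Dom.tensor_flat (C := C) hφ (B ⊗[k] R') h' y' fun j => by
    obtain ⟨n, hn⟩ := hy j
    refine ⟨n, ?_⟩
    let g : C j ⊗[k] R' →ₐ[k] (B ⊗[k] R') ⊗[B] C j :=
      Algebra.TensorProduct.lift
        ((Algebra.TensorProduct.includeRight : C j →ₐ[B] (B ⊗[k] R') ⊗[B] C j).restrictScalars k)
        (((Algebra.TensorProduct.includeLeft : B ⊗[k] R' →ₐ[B] (B ⊗[k] R') ⊗[B] C j).restrictScalars k).comp
          Algebra.TensorProduct.includeRight) (fun _ _ => Commute.all (S := (B ⊗[k] R') ⊗[B] C j) _ _)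
    have key : ∀ t : B ⊗[k] R', t ⊗ₜ[B] (1 : C j) = g (Algebra.TensorProduct.map (φ j) (AlgHom.id k R') t) := by
      intro t
      induction t using TensorProduct.induction_on with
      | zero => simp
      | add a b ha hb => simp only [add_tmul, map_add, ha, hb]
      | tmul b r =>
        have : φ j b = b • (1 : C j) := by rw [Algebra.smul_def, mul_one]; rfl
        simp only [g, Algebra.TensorProduct.map_tmul, AlgHom.id_apply, Algebra.TensorProduct.lift_tmul,
          AlgHom.restrictScalars_apply, AlgHom.comp_apply, Algebra.TensorProduct.includeRight_apply,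
          Algebra.TensorProduct.includeLeft_apply, Algebra.TensorProduct.tmul_mul_tmul, one_mul, mul_one,
          this, tmul_smul, smul_tmul', smul_eq_mul]
        rw [smul_mul_assoc, one_mul, smul_tmul', smul_eq_mul, mul_one]
    show (h' ^ n * y') ⊗ₜ[B] (1 : C j) = 0
    rw [key, show Algebra.TensorProduct.map (φ j) (AlgHom.id k R') (h' ^ n * y') = 0 from ?_, map_zero]
    apply Module.Flat.lTensor_preserves_injective_linearMap (M := C j) R'.val.toLinearMap Subtype.val_injective
    rw [map_zero, ← hn, ← map_pow, ← map_mul]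
    generalize h' ^ n * y' = t
    induction t using TensorProduct.induction_on with
    | zero => simp
    | add a b ha hb => simp only [map_add, ha, hb]
    | tmul b r => simp [incl]
  exact ⟨N, by rw [← map_pow, ← map_mul, hN, map_zero]⟩

end Field

section Fibrewise

variable {R : Type u} [CommRing R] {B : Type u} [CommRing B] [Algebra R B] {J : Type v} {C : J → Type u}
  [∀ j, CommRing (C j)] [∀ j, Algebra R (C j)] [∀ j, Module.Flat R (C j)] (φ : ∀ j, B →ₐ[R] C j)

/-- The kernel of `M → M ⊗ κ(q)`. -/
theorem exists_smul_mem_of_tmul_one_eq_zero {M : Type u} [AddCommGroup M] [Module R M] (q : Ideal R) [q.IsPrime]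
    (m : M) (hm : m ⊗ₜ[R] (1 : q.ResidueField) = 0) : ∃ r : R, r ∉ q ∧ r • m ∈ q • (⊤ : Submodule R M) := by
  let L := Algebra.linearMap (R ⧸ q) q.ResidueField
  haveI : IsLocalizedModule (nonZeroDivisors (R ⧸ q)) L := inferInstance
  let ℓ := AlgebraTensorModule.rTensor R M L
  have h1 : ℓ ((1 : R ⧸ q) ⊗ₜ m) = 0 := by
    have := congrArg (TensorProduct.comm R M q.ResidueField) hm
    simpa [ℓ, L] using this
  obtain ⟨⟨c, hc⟩, hc0⟩ := (IsLocalizedModule.eq_zero_iff (nonZeroDivisors (R ⧸ q)) ℓ).1 h1
  obtain ⟨r, rfl⟩ := Ideal.Quotient.mk_surjective c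
  refine ⟨r, fun hr => nonZeroDivisors.ne_zero hc (Ideal.Quotient.eq_zero_iff_mem.2 hr), ?_⟩
  have h2 : (1 : R ⧸ q) ⊗ₜ[R] (r • m) = 0 := by
    rw [tmul_smul, ← algebraMap_smul (R ⧸ q) r]
    exact hc0
  have := congrArg (TensorProduct.quotTensorEquivQuotSMul M q) h2
  rw [map_zero] at this
  rw [← Submodule.Quotient.mk_eq_zero]
  simpa using this

set_option maxHeartbeats 800000 in
set_option synthInstance.maxHeartbeats 200000 in
/-- Noetherian fibrewise criterion: if the fibres are schematically dominant, so is the family. -/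
theorem Dom.of_fibres [IsNoetherianRing B]
    (hfib : ∀ (q : Ideal R) [q.IsPrime],
      Dom fun j => (Algebra.TensorProduct.map (φ j) (AlgHom.id R q.ResidueField)).toRingHom) :
    Dom fun j => (φ j).toRingHom := by
  intro h b hb
  classical
  by_contra hne
  let S := Submonoid.powers h
  let I : Ideal B := (⊥ : Ideal B).colon (Submodule.span B {b})
  have hI : Disjoint (I : Set B) S := by
    rw [Set.disjoint_left]
    rintro _ hx ⟨N, rfl⟩
    exact hne ⟨N, by simpa using Submodule.mem_colon.1 hx b (Submodule.mem_span_singleton_self b)⟩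
  obtain ⟨p, hp, hIp, hdisj⟩ := Ideal.exists_le_prime_disjoint I S hI
  have hhp : h ∉ p := fun hh => Set.disjoint_left.1 hdisj hh ⟨1, pow_one h⟩
  let q : Ideal R := p.comap (algebraMap R B)
  haveI : q.IsPrime := Ideal.IsPrime.comap _
  let κ := q.ResidueField
  have step : ∀ n : ℕ, ∃ s : B, s ∉ p ∧ s * b ∈ (q.map (algebraMap R B)) ^ n := by
    intro n
    induction n with
    | zero => exact ⟨1, p.ne_top_iff_one.1 hp.ne_top, by simp⟩
    | succ n ih =>
      obtain ⟨s, hs, hsb⟩ := ih
      let Iₙ : Submodule R R := q ^ n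
      let ι₀ : Iₙ →ₗ[R] R := Iₙ.subtype
      let μ : B ⊗[R] Iₙ →ₗ[R] B := (TensorProduct.rid R B).toLinearMap ∘ₗ ι₀.lTensor B
      have μsmul : ∀ (c : B) (t : B ⊗[R] Iₙ), μ (c • t) = c * μ t := by
        intro c t
        induction t using TensorProduct.induction_on with
        | zero => simp
        | add u v hu hv => simp only [smul_add, map_add, mul_add, hu, hv]
        | tmul a r => simp [μ, smul_tmul']
      obtain ⟨z, hz⟩ : ∃ z, μ z = s * b := by
        rw [← Ideal.map_pow, Ideal.map] at hsb
        generalize s * b = e at hsb ⊢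
        induction hsb using Submodule.span_induction with
        | mem x hx => obtain ⟨r, hr, rfl⟩ := hx; exact ⟨1 ⊗ₜ ⟨r, hr⟩, by simp [μ, ι₀, Algebra.smul_def]⟩
        | zero => exact ⟨0, map_zero _⟩
        | add x y _ _ hx hy =>
          obtain ⟨u, rfl⟩ := hx; obtain ⟨v, rfl⟩ := hy; exact ⟨u + v, map_add _ _ _⟩
        | smul c x _ hx =>
          obtain ⟨u, rfl⟩ := hx
          exact ⟨c • u, μsmul c u⟩
      -- images in the flat algebras vanish
      have hzero : ∀ j, ∃ m : ℕ, (φ j).toLinearMap.rTensor Iₙ (h ^ m • z) = 0 := by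
        intro j
        obtain ⟨m, hm⟩ := hb j
        refine ⟨m, ?_⟩
        apply Module.Flat.lTensor_preserves_injective_linearMap (M := C j) ι₀ Subtype.val_injective
        apply (TensorProduct.rid R (C j)).injective
        rw [map_zero, map_zero]
        have key : ∀ t : B ⊗[R] Iₙ, TensorProduct.rid R (C j) (ι₀.lTensor (C j) ((φ j).toLinearMap.rTensor Iₙ t)) =
            φ j (μ t) := by
          intro t
          induction t using TensorProduct.induction_on with
          | zero => simp
          | add u v hu hv => simp only [map_add, hu, hv]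
          | tmul a r => simp [μ]
        rw [key]
        rw [μsmul, hz, mul_left_comm, map_mul]
        change φ j s * φ j (h ^ m * b) = 0
        have hm' : φ j (h ^ m * b) = 0 := hm
        rw [hm', mul_zero]
      -- components in the fibre
      let W := κ ⊗[R] Iₙ
      let bas := Module.Free.chooseBasis κ W
      let toW : ∀ (X : Type u) [AddCommGroup X] [Module R X], X ⊗[R] Iₙ →ₗ[R] X ⊗[R] W := fun X _ _ =>
        ((TensorProduct.mk R κ Iₙ) 1).lTensor X
      let comp : ∀ (X : Type u) [AddCommGroup X] [Module R X] (i : Module.Free.ChooseBasisIndex κ W),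
          X ⊗[R] W →ₗ[R] X ⊗[R] κ := fun X _ _ i => ((bas.coord i).restrictScalars R).lTensor X
      have hu : ∀ i, ∃ N : ℕ, (h ⊗ₜ[R] (1 : κ)) ^ N * comp B i (toW B z) = 0 := by
        intro i
        refine hfib q _ _ fun j => ?_
        obtain ⟨m, hm⟩ := hzero j
        refine ⟨m, ?_⟩
        have e1 : (h ⊗ₜ[R] (1 : κ)) ^ m * comp B i (toW B z) = comp B i (toW B (h ^ m • z)) := by
          rw [Algebra.TensorProduct.tmul_pow, one_pow]
          generalize h ^ m = c
          clear hz hzero hm
          induction z using TensorProduct.induction_on with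
          | zero => simp
          | add u v hu hv => simp only [smul_add, map_add, mul_add, hu, hv]
          | tmul a r => simp [comp, toW, smul_tmul']
        rw [e1]
        have key : ∀ t : B ⊗[R] Iₙ, Algebra.TensorProduct.map (φ j) (AlgHom.id R κ) (comp B i (toW B t)) =
            comp (C j) i (toW (C j) ((φ j).toLinearMap.rTensor Iₙ t)) := by
          intro t
          induction t using TensorProduct.induction_on with
          | zero => simp
          | add u v hu hv => simp only [map_add, hu, hv]
          | tmul a r => simp [comp, toW]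
        show Algebra.TensorProduct.map (φ j) (AlgHom.id R κ) (comp B i (toW B (h ^ m • z))) = 0
        rw [key, hm, map_zero, map_zero]
      let E := (AlgebraTensorModule.congr (LinearEquiv.refl B B) (bas.repr.restrictScalars R)).trans
        (TensorProduct.finsuppRight R B B κ (Module.Free.ChooseBasisIndex κ W))
      have hE : ∀ (t : B ⊗[R] W) (i), E t i = comp B i t := by
        intro t i
        induction t using TensorProduct.induction_on with
        | zero => simp
        | add u v hu hv => simp only [map_add, Finsupp.add_apply, hu, hv]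
        | tmul a r => simp [E, comp]
      choose N hN using hu
      let N₀ := (E (toW B z)).support.sup N
      have hW : h ^ N₀ • toW B z = 0 := by
        apply E.injective
        rw [map_smul, map_zero]
        ext i
        rw [Finsupp.smul_apply, Finsupp.zero_apply]
        by_cases hi : i ∈ (E (toW B z)).support
        · rw [hE]
          obtain ⟨c, hc⟩ := Nat.exists_eq_add_of_le (Finset.le_sup (f := N) hi)
          have e2 : h ^ N₀ • comp B i (toW B z) = (h ⊗ₜ[R] (1 : κ)) ^ N₀ * comp B i (toW B z) := by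
            rw [Algebra.smul_def, Algebra.TensorProduct.algebraMap_apply, Algebra.algebraMap_self, RingHom.id_apply,
              Algebra.TensorProduct.tmul_pow, one_pow]
          rw [e2, show N₀ = c + N i by omega, pow_add, mul_assoc, hN, mul_zero]
        · rw [Finsupp.notMem_support_iff.1 hi, smul_zero]
      have hk : (h ^ N₀ • z) ⊗ₜ[R] (1 : κ) = 0 := by
        let assoc : B ⊗[R] W ≃ₗ[R] (B ⊗[R] Iₙ) ⊗[R] κ :=
          (TensorProduct.congr (LinearEquiv.refl R B) (TensorProduct.comm R κ Iₙ)).trans
            (TensorProduct.assoc R B Iₙ κ).symm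
        have key : ∀ (c : B) (t : B ⊗[R] Iₙ), (c • t) ⊗ₜ[R] (1 : κ) = assoc (c • toW B t) := by
          intro c t
          induction t using TensorProduct.induction_on with
          | zero => simp
          | add u v hu hv => simp only [smul_add, add_tmul, map_add, hu, hv]
          | tmul a r => simp [assoc, toW, smul_tmul']
        rw [key, hW, map_zero]
      obtain ⟨r, hr, hrz⟩ := exists_smul_mem_of_tmul_one_eq_zero q _ hk
      refine ⟨algebraMap R B r * h ^ N₀ * s, ?_, ?_⟩
      · intro hc
        rcases hp.mem_or_mem hc with hc | hc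
        · rcases hp.mem_or_mem hc with hc | hc
          · exact hr hc
          · exact hhp (hp.mem_of_pow_mem _ hc)
        · exact hs hc
      · have hmu : ∀ t ∈ q • (⊤ : Submodule R (B ⊗[R] Iₙ)), μ t ∈ (q.map (algebraMap R B)) ^ (n + 1) := by
          intro t ht
          refine Submodule.smul_induction_on ht (fun a ha t ht' => ?_) (fun u v hu hv => ?_)
          · rw [map_smul, Algebra.smul_def, pow_succ']
            refine Ideal.mul_mem_mul (Ideal.mem_map_of_mem _ ha) ?_
            clear ht'
            induction t using TensorProduct.induction_on with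
            | zero => simp
            | add u v hu hv => rw [map_add]; exact add_mem hu hv
            | tmul c d =>
              simp only [μ, ι₀, LinearMap.comp_apply, LinearMap.lTensor_tmul, LinearEquiv.coe_coe,
                TensorProduct.rid_tmul, Algebra.smul_def]
              rw [← Ideal.map_pow]
              exact Ideal.mul_mem_right _ _ (Ideal.mem_map_of_mem _ d.2)
          · rw [map_add]; exact add_mem hu hv
        have := hmu _ hrz
        have e3 : μ (r • h ^ N₀ • z) = algebraMap R B r * (h ^ N₀ * μ z) := by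
          rw [map_smul, Algebra.smul_def, μsmul]
        rw [e3, hz] at this
        simpa [mul_assoc] using this
  -- Krull intersection at `p`
  let Bp := Localization.AtPrime p
  have hmem : algebraMap B Bp b ∈ ⨅ n : ℕ, (IsLocalRing.maximalIdeal Bp) ^ n := by
    rw [Submodule.mem_iInf]
    intro n
    obtain ⟨s, hs, hsb⟩ := step n
    have h1 : algebraMap B Bp (s * b) ∈ (IsLocalRing.maximalIdeal Bp) ^ n := by
      rw [← Localization.AtPrime.map_eq_maximalIdeal, ← Ideal.map_pow]
      exact Ideal.mem_map_of_mem _ (Ideal.pow_right_mono Ideal.map_comap_le n hsb)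
    rw [map_mul] at h1
    have hu : IsUnit (algebraMap B Bp s) := IsLocalization.map_units Bp (⟨s, hs⟩ : p.primeCompl)
    exact (Ideal.unit_mul_mem_iff_mem _ hu).1 h1
  rw [Ideal.iInf_pow_eq_bot_of_isLocalRing _ (IsLocalRing.maximalIdeal.isMaximal Bp).ne_top, Submodule.mem_bot] at hmem
  obtain ⟨⟨c, hc⟩, hcb⟩ := (IsLocalization.map_eq_zero_iff p.primeCompl Bp b).1 hmem
  refine hc (hIp (Submodule.mem_colon.2 fun x hx => ?_))
  obtain ⟨t, rfl⟩ := Submodule.mem_span_singleton.1 hx
  simp only [Submodule.mem_bot, smul_eq_mul]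
  rw [mul_left_comm, hcb, mul_zero]

end Fibrewise

section Universal

variable {R : Type u} [CommRing R] {B : Type u} [CommRing B] [Algebra R B] [IsNoetherianRing B] {J : Type v}
  {C : J → Type u} [∀ j, CommRing (C j)] [∀ j, Algebra R (C j)] [∀ j, Module.Flat R (C j)]
  (φ : ∀ j, B →ₐ[R] C j)

set_option synthInstance.maxHeartbeats 200000 in
set_option maxHeartbeats 800000 in
/-- Universal schematic dominance from fibres. -/
theorem Dom.univ_of_fibres
    (hfib : ∀ (q : Ideal R) [q.IsPrime],
      Dom fun j => (Algebra.TensorProduct.map (φ j) (AlgHom.id R q.ResidueField)).toRingHom)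
    (R' : Type u) [CommRing R'] [Algebra R R'] :
    Dom fun j => (Algebra.TensorProduct.map (φ j) (AlgHom.id R R')).toRingHom := by
  intro h y hy
  classical
  obtain ⟨P₁, hP₁, hh⟩ := TensorProduct.exists_finite_submodule_right_of_setFinite (R := R) (M := B) (N := R')
    {h, y} (Set.toFinite _)
  obtain ⟨s, hs⟩ := Module.Finite.iff_fg.1 hP₁
  let T : Subalgebra R R' := Algebra.adjoin R (s : Set R')
  haveI : Algebra.FiniteType R T := .adjoin_of_finite s.finite_toSet
  have hle : P₁ ≤ Subalgebra.toSubmodule T := by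
    rw [← hs, Submodule.span_le]
    exact Algebra.subset_adjoin
  let incl : B ⊗[R] T →ₐ[R] B ⊗[R] R' := Algebra.TensorProduct.map (AlgHom.id R B) T.val
  have lift : ∀ t ∈ ({h, y} : Set (B ⊗[R] R')), ∃ t', incl t' = t := by
    intro t ht
    obtain ⟨t₁, rfl⟩ := hh ht
    refine ⟨(Submodule.inclusion hle).lTensor B t₁, ?_⟩
    clear ht
    induction t₁ using TensorProduct.induction_on with
    | zero => simp
    | tmul a b => simp [incl]
    | add a b ha hb => simp only [map_add, ha, hb]
  obtain ⟨h', rfl⟩ := lift h (Or.inl rfl)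
  obtain ⟨y', rfl⟩ := lift y (Or.inr rfl)
  haveI : IsNoetherianRing (B ⊗[R] T) := Algebra.FiniteType.isNoetherianRing B _
  haveI : IsNoetherianRing (T ⊗[R] B) :=
    isNoetherianRing_of_ringEquiv (B ⊗[R] T) (Algebra.TensorProduct.comm R B T).toRingEquiv
  let φ'' : ∀ j, T ⊗[R] B →ₐ[T] T ⊗[R] C j := fun j => Algebra.TensorProduct.map (AlgHom.id T T) (φ j)
  haveI : ∀ j, Module.Flat T (T ⊗[R] C j) := fun j => inferInstance
  have hdom : Dom fun j => (φ'' j).toRingHom := by
    refine Dom.of_fibres φ'' fun q'' _ => ?_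
    let q : Ideal R := q''.comap (algebraMap R T)
    haveI : q.IsPrime := Ideal.IsPrime.comap _
    let κ := q.ResidueField
    let κ'' := q''.ResidueField
    let f : κ →ₐ[R] κ'' := Ideal.ResidueField.mapₐ q q'' (Algebra.ofId R T) rfl
    letI : Algebra κ κ'' := f.toRingHom.toAlgebra
    haveI : IsScalarTower R κ κ'' := IsScalarTower.of_algebraMap_eq fun r => (f.commutes r).symm
    have hκ := Dom.tensor_field (k := κ) (B := κ ⊗[R] B) (C := fun j => κ ⊗[R] C j)
      (fun j => Algebra.TensorProduct.map (AlgHom.id κ κ) (φ j))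
      ((hfib q).of_injective (Algebra.TensorProduct.comm R κ B).toRingEquiv.toRingHom
        (Algebra.TensorProduct.comm R κ B).injective (fun j => (Algebra.TensorProduct.comm R κ (C j)).toRingEquiv.toRingHom)
        (fun j t => by
          induction t using TensorProduct.induction_on with
          | zero => simp
          | add a b ha hb => simp only [map_add, ha, hb]
          | tmul a b => simp)) κ''
    refine hκ.of_injective ?g ?inj ?g' ?comm
    case g =>
      exact ((Algebra.TensorProduct.comm T (T ⊗[R] B) κ'').toRingEquiv.trans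
        ((Algebra.TensorProduct.cancelBaseChange R T κ'' κ'' B).toRingEquiv.trans
          ((Algebra.TensorProduct.cancelBaseChange R κ κ'' κ'' B).toRingEquiv.symm.trans
            (Algebra.TensorProduct.comm κ κ'' (κ ⊗[R] B)).toRingEquiv))).toRingHom
    case g' =>
      exact fun j => ((Algebra.TensorProduct.comm T (T ⊗[R] C j) κ'').toRingEquiv.trans
        ((Algebra.TensorProduct.cancelBaseChange R T κ'' κ'' (C j)).toRingEquiv.trans
          ((Algebra.TensorProduct.cancelBaseChange R κ κ'' κ'' (C j)).toRingEquiv.symm.trans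
            (Algebra.TensorProduct.comm κ κ'' (κ ⊗[R] C j)).toRingEquiv))).toRingHom
    case inj => exact RingEquiv.injective _
    case comm =>
      intro j t
      induction t using TensorProduct.induction_on with
      | zero => simp
      | add a b ha hb => simp only [map_add, ha, hb]
      | tmul a b =>
        induction a using TensorProduct.induction_on with
        | zero => simp
        | add a b ha hb => simp only [add_tmul, map_add, ha, hb]
        | tmul a c => simp [φ'']
  obtain ⟨N, hN⟩ := hdom (Algebra.TensorProduct.comm R B T h') (Algebra.TensorProduct.comm R B T y') fun j => by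
    obtain ⟨n, hn⟩ := hy j
    refine ⟨n, ?_⟩
    rw [← map_pow, ← map_mul]
    apply (Algebra.TensorProduct.comm R T (C j)).injective
    apply Module.Flat.lTensor_preserves_injective_linearMap (M := C j) T.val.toLinearMap Subtype.val_injective
    rw [map_zero, map_zero, ← hn, ← map_pow, ← map_mul]
    generalize h' ^ n * y' = t
    induction t using TensorProduct.induction_on with
    | zero => simp
    | add a b ha hb => simp only [map_add, ha, hb]
    | tmul b r => simp [φ'', incl]
  refine ⟨N, ?_⟩
  rw [← map_pow, ← map_mul] at hN ⊢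
  rw [(Algebra.TensorProduct.comm R B T).injective (hN.trans (map_zero _).symm), map_zero]

end Universal

end Groth.SchDom
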