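import Mathlib
import Groth.Agent.SchDom.BaseChange

/-!
# Schematically dominant families of morphisms: affine charts
-/

universe u

set_option autoImplicit false
set_option backward.isDefEq.respectTransparency false

open CategoryTheory Limits AlgebraicGeometry TopologicalSpace

namespace Groth.SchDom

/-- Schematic dominance of a family of morphisms. -/
def SD {X : Scheme.{u}} {ι : Type u} {Z : ι → Scheme.{u}} (f : ∀ i, Z i ⟶ X) : Prop :=
  ∀ (V : X.Opens) (t : Γ(X, V)), (∀ i, (f i).app V t = 0) → t = 0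

/-- A section killed by an open immersion restricts to zero on the range. -/
theorem map_image_eq_zero {X Y : Scheme.{u}} (c : Y ⟶ X) [IsOpenImmersion c] {V : X.Opens} {t : Γ(X, V)}
    (ht : c.app V t = 0) (h : c ''ᵁ (c ⁻¹ᵁ V) ≤ V) : X.presheaf.map (homOfLE h).op t = 0 := by
  apply (c.appIso (c ⁻¹ᵁ V)).commRingCatIsoToRingEquiv.injective
  rw [map_zero]
  show (c.appIso (c ⁻¹ᵁ V)).hom (X.presheaf.map (homOfLE h).op t) = 0
  have e : X.presheaf.map (homOfLE h).op ≫ (c.appIso (c ⁻¹ᵁ V)).hom = c.app V := by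
    rw [Scheme.Hom.appIso_hom', Scheme.Hom.map_appLE, Scheme.Hom.app_eq_appLE]
  rw [← CategoryTheory.comp_apply, e, ht]

theorem section_eq_zero_of_charts {X : Scheme.{u}} {V : X.Opens} (t : Γ(X, V))
    (H : ∀ x ∈ V, ∃ (Y : Scheme.{u}) (c : Y ⟶ X) (_ : IsOpenImmersion c), x ∈ Set.range c ∧ c.app V t = 0) :
    t = 0 := by
  choose Y c hc hx ht using fun x : V => H x.1 x.2
  have hle : ∀ x : V, (c x) ''ᵁ ((c x) ⁻¹ᵁ V) ≤ V := fun x => Scheme.Hom.image_preimage_le _ _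
  refine X.sheaf.eq_of_locally_eq' (fun x : V => (c x) ''ᵁ ((c x) ⁻¹ᵁ V)) V (fun x => homOfLE (hle x)) ?_ _ _ ?_
  · intro z hz
    obtain ⟨y, hy⟩ := hx ⟨z, hz⟩
    rw [Opens.mem_iSup]
    exact ⟨⟨z, hz⟩, y, show (c _) y ∈ V by rw [hy]; exact hz, hy⟩
  · intro x
    rw [map_zero]
    exact map_image_eq_zero (c x) (ht x) (hle x)

theorem app_res {X Y : Scheme.{u}} (g : Y ⟶ X) {U V : X.Opens} (h : U ≤ V) (b : Γ(X, V)) :
    g.app U (X.presheaf.map (homOfLE h).op b) =
      Y.presheaf.map (homOfLE (g.preimage_mono h)).op (g.app V b) := by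
  rw [← CategoryTheory.comp_apply, g.naturality, CategoryTheory.comp_apply]; rfl

theorem res_res {X : Scheme.{u}} {U V W : X.Opens} (h : U ≤ V) (h' : V ≤ W) (b : Γ(X, W)) :
    X.presheaf.map (homOfLE h).op (X.presheaf.map (homOfLE h').op b) = X.presheaf.map (homOfLE (h.trans h')).op b := by
  rw [← CategoryTheory.comp_apply, ← X.presheaf.map_comp]; rfl

theorem res_self {X : Scheme.{u}} {U : X.Opens} (h : U ≤ U) (b : Γ(X, U)) :
    X.presheaf.map (homOfLE h).op b = b := by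
  have : (homOfLE h).op = 𝟙 (Opposite.op U) := rfl
  rw [this, X.presheaf.map_id]; rfl

/-- If `k ^ n * b = 0` then `b` restricts to zero on any open inside `D(k)`. -/
theorem res_eq_zero {Y : Scheme.{u}} {k b : Γ(Y, ⊤)} {n : ℕ} (hkb : k ^ n * b = 0) {U : Y.Opens}
    (hU : U ≤ Y.basicOpen k) : Y.presheaf.map (homOfLE (le_top : U ≤ ⊤)).op b = 0 := by
  have hu : IsUnit (Y.presheaf.map (homOfLE (le_top : U ≤ ⊤)).op k) := by
    have := (RingedSpace.isUnit_res_basicOpen Y.toRingedSpace k).map (Y.presheaf.map (homOfLE hU).op).hom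
    rwa [← res_res hU (Y.basicOpen_le k) k]
  apply (hu.pow n).mul_right_eq_zero.1
  rw [← map_pow, ← map_mul, hkb, map_zero]

theorem chain_zero {X Y Z W : Scheme.{u}} {c : W ⟶ Z} {f : Z ⟶ X} {g : W ⟶ Y} {a : Y ⟶ X}
    (w : c ≫ f = g ≫ a) {U : X.Opens} {t : Γ(X, U)} (h0 : g.app (a ⁻¹ᵁ U) (a.app U t) = 0) :
    c.app (f ⁻¹ᵁ U) (f.app U t) = 0 := by
  have e : ∀ m : W ⟶ X, m = g ≫ a → m.app U t = 0 := by
    intro m hm; subst hm; exact h0
  exact e _ w

/-- Schematic dominance gives the ring-theoretic condition on an affine chart. -/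
theorem dom_of_sd {X : Scheme.{u}} {ι : Type u} {Z : ι → Scheme.{u}} {f : ∀ i, Z i ⟶ X} (hf : SD f)
    {Y : Scheme.{u}} [IsAffine Y] (a : Y ⟶ X) [IsOpenImmersion a]
    {J : Type*} (idx : J → ι) {W : J → Scheme.{u}}
    (g : ∀ j, W j ⟶ Y) (c : ∀ j, W j ⟶ Z (idx j)) (hc : ∀ j, IsOpenImmersion (c j))
    (w : ∀ j, c j ≫ f (idx j) = g j ≫ a)
    (hcov : ∀ i (z : Z i), f i z ∈ Set.range a → ∃ j, ∃ h : idx j = i, z ∈ Set.range (c j ≫ eqToHom (by rw [h]))) :
    Dom fun j => (g j).appTop.hom := by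
  intro h b hb
  let D := Y.basicOpen h
  let b' : Γ(Y, D) := Y.presheaf.map (homOfLE (le_top : D ≤ ⊤)).op b
  let s : Γ(X, a ''ᵁ D) := (a.appIso D).inv b'
  have hs : a.app (a ''ᵁ D) s =
      Y.presheaf.map (homOfLE (le_top : a ⁻¹ᵁ (a ''ᵁ D) ≤ ⊤)).op b := by
    have := congrArg (fun m => m b') (a.appIso_inv_app D)
    simp only [CategoryTheory.comp_apply] at this
    refine this.trans ?_
    show Y.presheaf.map _ (Y.presheaf.map _ b) = _
    rw [← CategoryTheory.comp_apply, ← Y.presheaf.map_comp]; rfl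
  have hzero : s = 0 := by
    refine hf _ s fun i => section_eq_zero_of_charts _ fun z hz => ?_
    obtain ⟨j, hji, hj⟩ := hcov i z (by
      obtain ⟨y, -, hy⟩ := (hz : f i z ∈ a ''ᵁ D)
      exact ⟨y, hy⟩)
    subst hji
    simp only [eqToHom_refl, Category.comp_id] at hj
    refine ⟨_, c j, hc j, hj, chain_zero (w j) ?_⟩
    rw [hs, app_res (g j) le_top]
    obtain ⟨n, hn⟩ := hb j
    change (g j).appTop (h ^ n * b) = 0 at hn
    rw [map_mul, map_pow] at hn
    refine res_eq_zero (k := (g j).appTop h) (b := (g j).appTop b) hn ?_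
    rw [← Scheme.preimage_basicOpen_top]
    exact (g j).preimage_mono (a.preimage_image_eq D).le
  have hb' : b' = 0 := by
    apply (a.appIso D).commRingCatIsoToRingEquiv.symm.injective
    rw [map_zero]; exact hzero
  exact exists_pow_mul_eq_zero_of_res_basicOpen_eq_zero_of_isCompact Y (U := ⊤) isCompact_univ b h hb'

/-- Dominant affine charts give schematic dominance. -/
theorem sd_of_dom {X : Scheme.{u}} {ι : Type u} {Z : ι → Scheme.{u}} {f : ∀ i, Z i ⟶ X}
    (H : ∀ x : X, ∃ (Y : Scheme.{u}) (_ : IsAffine Y) (a : Y ⟶ X) (_ : IsOpenImmersion a)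
      (J : Type u) (idx : J → ι) (W : J → Scheme.{u}) (g : ∀ j, W j ⟶ Y) (c : ∀ j, W j ⟶ Z (idx j)),
      (∀ j, CompactSpace (W j) ∧ c j ≫ f (idx j) = g j ≫ a) ∧ x ∈ Set.range a ∧ Dom fun j => (g j).appTop.hom) :
    SD f := by
  intro V t ht
  refine section_eq_zero_of_charts t fun x hx => ?_
  obtain ⟨Y, _, a, _, J, idx, W, g, c, hw, ⟨y, rfl⟩, hdom⟩ := H x
  obtain ⟨h, hle, hy⟩ := (isAffineOpen_top Y).exists_basicOpen_le (V := a ⁻¹ᵁ V) ⟨y, hx⟩ trivial
  let D := Y.basicOpen h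
  let u : Γ(Y, D) := Y.presheaf.map (homOfLE hle).op (a.app V t)
  have hloc : IsLocalization.Away h Γ(Y, D) := (isAffineOpen_top Y).isLocalization_basicOpen h
  obtain ⟨⟨b, ⟨_, n, rfl⟩⟩, hbu⟩ := IsLocalization.surj (Submonoid.powers h) u
  have hbu' : u * Y.presheaf.map (homOfLE (le_top : D ≤ ⊤)).op (h ^ n) =
      Y.presheaf.map (homOfLE (le_top : D ≤ ⊤)).op b := hbu
  obtain ⟨N, hN⟩ := hdom h b fun j => by
    have : CompactSpace (W j) := (hw j).1
    have h0 : (g j).app (a ⁻¹ᵁ V) (a.app V t) = 0 :=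
      chain_zero (hw j).2.symm (by rw [ht, map_zero])
    have h1 : (g j).app D (Y.presheaf.map (homOfLE (le_top : D ≤ ⊤)).op b) = 0 := by
      rw [← hbu', map_mul, app_res (g j) hle, h0, map_zero, zero_mul]
    rw [app_res] at h1
    have h2 : (W j).presheaf.map (homOfLE (le_top : (W j).basicOpen ((g j).appTop h) ≤ ⊤)).op ((g j).appTop b) = 0 := by
      have e : (g j) ⁻¹ᵁ D = (W j).basicOpen ((g j).appTop h) := Scheme.preimage_basicOpen _ _
      have h3 := congrArg ((W j).presheaf.map (homOfLE e.ge).op) h1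
      rw [map_zero] at h3
      rwa [res_res] at h3
    obtain ⟨m, hm⟩ := exists_pow_mul_eq_zero_of_res_basicOpen_eq_zero_of_isCompact (W j) (U := ⊤)
      isCompact_univ _ _ h2
    exact ⟨m, by show (g j).appTop (h ^ m * b) = 0; rw [map_mul, map_pow]; exact hm⟩
  have hu : u = 0 := by
    have hz := res_eq_zero hN (U := D) le_rfl
    rw [hz] at hbu'
    refine (IsUnit.mul_left_eq_zero ?_).1 hbu'
    rw [map_pow]
    exact (RingedSpace.isUnit_res_basicOpen Y.toRingedSpace h).pow n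
  refine ⟨D.toScheme, D.ι ≫ a, inferInstance, ⟨⟨y, hy⟩, rfl⟩, ?_⟩
  have : D.ι.app (a ⁻¹ᵁ V) (a.app V t) = 0 := by
    rw [Scheme.Opens.ι_app]
    have hh : D.ι ''ᵁ (D.ι ⁻¹ᵁ (a ⁻¹ᵁ V)) ≤ D := Scheme.Opens.ι_image_le _ _
    have := congrArg (Y.presheaf.map (homOfLE hh).op) hu
    rw [map_zero, res_res] at this
    exact this
  exact this

end Groth.SchDom
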