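import Mathlib
import Groth.Agent.QCohMod.Pullback
import Groth.Agent.QCohMod.Affine
import Groth.Agent.SchDom.Scheme

/-!
# Stalks of a pulled back quasi-coherent module through an affine chart
-/

universe u

set_option autoImplicit false
set_option backward.isDefEq.respectTransparency false

open CategoryTheory Limits AlgebraicGeometry TopologicalSpace TensorProduct

namespace Groth.SchDom

variable {P X : Scheme.{u}} (π : P ⟶ X) {W : X.Opens}

/-- `Γ(X, W) → O_{P, y}`. -/
@[reducible]
noncomputable def secAlg (y : P) (hy : π y ∈ W) : Algebra Γ(X, W) (P.presheaf.stalk y) :=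
  ((π.stalkMap y).hom.comp (X.presheaf.germ W (π y) hy).hom).toAlgebra

/-- The stalk of the pullback in terms of sections over an affine open. -/
theorem nonempty_pullStalk_equiv (F : X.Modules) [F.IsQuasicoherent] (hW : IsAffineOpen W) (y : P) (hy : π y ∈ W) :
    letI := secAlg π y hy
    Nonempty (P.presheaf.stalk y ⊗[Γ(X, W)] Γ(F, W) ≃ₗ[P.presheaf.stalk y]
      ((Scheme.Modules.pullback π).obj F).presheaf.stalk y) := by
  let _ := secAlg π y hy
  let _ := Groth.QCohMod.stalkAlg π y
  let _ := Groth.QCohMod.stalkModule F (π y) hy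
  let _ : Algebra Γ(X, W) (X.presheaf.stalk (π y)) := (X.presheaf.germ W (π y) hy).hom.toAlgebra
  have : IsScalarTower Γ(X, W) (X.presheaf.stalk (π y)) (F.presheaf.stalk (π y)) :=
    IsScalarTower.of_algebraMap_smul fun _ _ => rfl
  have : IsScalarTower Γ(X, W) (X.presheaf.stalk (π y)) (P.presheaf.stalk y) :=
    IsScalarTower.of_algebraMap_eq fun _ => rfl
  have hloc := hW.isLocalization_stalk ⟨π y, hy⟩
  have hb : IsBaseChange (X.presheaf.stalk (π y)) (Groth.QCohMod.germₗ F (π y) hy) :=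
    haveI := Groth.QCohMod.isLocalizedModule_germ F hW (π y) hy
    IsLocalizedModule.isBaseChange (hW.primeIdealOf ⟨π y, hy⟩).asIdeal.primeCompl _ _
  exact ⟨((AlgebraTensorModule.cancelBaseChange Γ(X, W) (X.presheaf.stalk (π y)) (P.presheaf.stalk y)
    (P.presheaf.stalk y) Γ(F, W)).symm.trans
      (AlgebraTensorModule.congr (LinearEquiv.refl _ _) hb.equiv)).trans (Groth.QCohMod.pullStalkEquiv π F y)⟩

variable {T : CommRingCat.{u}} (a : Spec T ⟶ P) [IsOpenImmersion a] (Q : Spec T)

/-- The localization map of the chart at a point. -/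
noncomputable def chartStalkHom : T ⟶ P.presheaf.stalk (a Q) :=
  (Scheme.ΓSpecIso T).inv ≫ (Spec T).presheaf.germ ⊤ Q trivial ≫ inv (a.stalkMap Q)

theorem stalkMap_chartStalkHom (t : T) :
    a.stalkMap Q (chartStalkHom a Q t) = (Spec T).presheaf.germ ⊤ Q trivial ((Scheme.ΓSpecIso T).inv t) := by
  simp only [chartStalkHom, CategoryTheory.comp_apply]
  rw [← CategoryTheory.comp_apply, IsIso.inv_hom_id]
  rfl

theorem isLocalization_chartStalkHom :
    letI := (chartStalkHom a Q).hom.toAlgebra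
    IsLocalization.AtPrime (P.presheaf.stalk (a Q)) Q.asIdeal := by
  let _ := (chartStalkHom a Q).hom.toAlgebra
  let _ : Algebra T ((Spec T).presheaf.stalk Q) := StructureSheaf.stalkAlgebra T Q
  have h : IsLocalization.AtPrime ((Spec T).presheaf.stalk Q) Q.asIdeal := StructureSheaf.IsLocalization.to_stalk T Q
  let e : (Spec T).presheaf.stalk Q ≃ₐ[T] P.presheaf.stalk (a Q) :=
    AlgEquiv.ofRingEquiv (f := (asIso (a.stalkMap Q)).symm.commRingCatIsoToRingEquiv) fun t => by
      apply (asIso (a.stalkMap Q)).commRingCatIsoToRingEquiv.injective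
      show a.stalkMap Q (inv (a.stalkMap Q) _) = a.stalkMap Q (chartStalkHom a Q t)
      rw [stalkMap_chartStalkHom, ← CategoryTheory.comp_apply, IsIso.inv_hom_id]
      rfl
  exact IsLocalization.isLocalization_of_algEquiv Q.asIdeal.primeCompl e

/-- Compatibility of the chart with the sections of an affine open downstairs. -/
theorem chartStalkHom_comp (hW : IsAffineOpen W) (ι : Γ(X, W) ⟶ T) (w : a ≫ π = Spec.map ι ≫ hW.fromSpec)
    (hy : π (a Q) ∈ W) (b : Γ(X, W)) :
    π.stalkMap (a Q) (X.presheaf.germ W (π (a Q)) hy b) = chartStalkHom a Q (ι b) := by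
  apply (asIso (a.stalkMap Q)).commRingCatIsoToRingEquiv.injective
  show a.stalkMap Q _ = a.stalkMap Q _
  rw [stalkMap_chartStalkHom, Scheme.Hom.germ_stalkMap_apply, Scheme.Hom.germ_stalkMap_apply]
  have h2 : ∀ (m : Spec T ⟶ X) (_ : m = Spec.map ι ≫ hW.fromSpec) (hm : m Q ∈ W),
      (Spec T).presheaf.germ (m ⁻¹ᵁ W) Q hm (m.app W b) =
        (Spec T).presheaf.germ ⊤ Q trivial ((Scheme.ΓSpecIso T).inv (ι b)) := by
    intro m hm' hm
    subst hm'
    have e1 : hW.fromSpec.app W b = (Spec Γ(X, W)).presheaf.map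
        (homOfLE (le_top : hW.fromSpec ⁻¹ᵁ W ≤ ⊤)).op ((Scheme.ΓSpecIso Γ(X, W)).inv b) := by
      rw [hW.fromSpec_app_self]; rfl
    have e2 : (Spec.map ι).appTop ((Scheme.ΓSpecIso Γ(X, W)).inv b) = (Scheme.ΓSpecIso T).inv (ι b) := by
      rw [← CategoryTheory.comp_apply, ← Scheme.ΓSpecIso_inv_naturality]; rfl
    show (Spec T).presheaf.germ _ Q hm ((Spec.map ι).app (hW.fromSpec ⁻¹ᵁ W) (hW.fromSpec.app W b)) = _
    rw [e1, app_res]
    show (Spec T).presheaf.germ _ Q hm ((Spec T).presheaf.map _ ((Spec.map ι).appTop _)) = _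
    rw [e2]
    exact TopCat.Presheaf.germ_res_apply _ _ _ _ _
  exact h2 (a ≫ π) w hy

end Groth.SchDom
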