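import Mathlib
import Groth.Agent.SchDom.Scheme

/-!
# Schematic dominance on spectra and under base change
-/

universe u

set_option autoImplicit false
set_option backward.isDefEq.respectTransparency false

open CategoryTheory Limits AlgebraicGeometry TopologicalSpace TensorProduct

namespace Groth.SchDom

theorem dom_appTop_specMap_iff {B : CommRingCat.{u}} {J : Type*} {C : J → CommRingCat.{u}} (φ : ∀ j, B ⟶ C j) :
    Dom (fun j => (Spec.map (φ j)).appTop.hom) ↔ Dom fun j => (φ j).hom := by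
  have e : ∀ j b, (Scheme.ΓSpecIso (C j)).hom ((Spec.map (φ j)).appTop b) = φ j ((Scheme.ΓSpecIso B).hom b) := by
    intro j b
    rw [← CategoryTheory.comp_apply, Scheme.ΓSpecIso_naturality]; rfl
  constructor
  · intro h
    refine h.of_injective (Scheme.ΓSpecIso B).inv.hom (Scheme.ΓSpecIso B).commRingCatIsoToRingEquiv.symm.injective
      (fun j => (Scheme.ΓSpecIso (C j)).inv.hom) fun j b => ?_
    apply (Scheme.ΓSpecIso (C j)).commRingCatIsoToRingEquiv.injective
    show (Scheme.ΓSpecIso (C j)).hom _ = (Scheme.ΓSpecIso (C j)).hom _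
    rw [e]
    simp only [← CategoryTheory.comp_apply, Category.assoc, Iso.inv_hom_id, Category.comp_id, CategoryTheory.id_apply]
  · intro h
    exact h.of_injective (Scheme.ΓSpecIso B).hom.hom (Scheme.ΓSpecIso B).commRingCatIsoToRingEquiv.injective
      (fun j => (Scheme.ΓSpecIso (C j)).hom.hom) fun j b => (e j b).symm

/-- Affine charts of the source over an affine chart of the target. -/
theorem exists_charts {X Y : Scheme.{u}} (f : Y ⟶ X) {B : CommRingCat.{u}} (a : Spec B ⟶ X) [IsOpenImmersion a] :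
    ∃ (J : Type u) (C : J → CommRingCat.{u}) (c : ∀ j, Spec (C j) ⟶ Y) (φ : ∀ j, B ⟶ C j),
      (∀ j, IsOpenImmersion (c j) ∧ c j ≫ f = Spec.map (φ j) ≫ a) ∧
      ∀ y, f y ∈ Set.range a → ∃ j, y ∈ Set.range (c j) := by
  let P := pullback f a
  let 𝒰 := P.affineOpenCover
  refine ⟨𝒰.I₀, fun j => 𝒰.X j, fun j => 𝒰.f j ≫ pullback.fst f a,
    fun j => Spec.preimage (𝒰.f j ≫ pullback.snd f a), fun j => ⟨inferInstance, ?_⟩, ?_⟩
  · rw [Spec.map_preimage, Category.assoc, Category.assoc, pullback.condition]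
  · intro y hy
    obtain ⟨b, hb⟩ := hy
    obtain ⟨z, hz, -⟩ := Scheme.Pullback.exists_preimage_pullback y b hb.symm
    obtain ⟨w, hw⟩ := 𝒰.covers z
    exact ⟨𝒰.idx z, w, by rw [Scheme.Hom.comp_apply, hw]; exact hz⟩

theorem exists_chart_at {X : Scheme.{u}} {S : Scheme.{u}} (p : X ⟶ S) {R : CommRingCat.{u}} (o : Spec R ⟶ S)
    [IsOpenImmersion o] (x : X) (hx : p x ∈ Set.range o) :
    ∃ (B : CommRingCat.{u}) (a : Spec B ⟶ X) (ρ : R ⟶ B), IsOpenImmersion a ∧ x ∈ Set.range a ∧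
      a ≫ p = Spec.map ρ ≫ o := by
  obtain ⟨J, C, c, φ, hc, hcov⟩ := exists_charts p o
  obtain ⟨j, hj⟩ := hcov x hx
  exact ⟨C j, c j, φ j, (hc j).1, hj, (hc j).2⟩

theorem dom_of_sd_spec {X : Scheme.{u}} {ι : Type u} {Z : ι → Scheme.{u}} {f : ∀ i, Z i ⟶ X} (hf : SD f)
    {B : CommRingCat.{u}} (a : Spec B ⟶ X) [IsOpenImmersion a] {J : Type*} (idx : J → ι)
    {C : J → CommRingCat.{u}} (φ : ∀ j, B ⟶ C j) (c : ∀ j, Spec (C j) ⟶ Z (idx j))
    (hc : ∀ j, IsOpenImmersion (c j)) (w : ∀ j, c j ≫ f (idx j) = Spec.map (φ j) ≫ a)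
    (hcov : ∀ i (z : Z i), f i z ∈ Set.range a → ∃ j, ∃ h : idx j = i, z ∈ Set.range (c j ≫ eqToHom (by rw [h]))) :
    Dom fun j => (φ j).hom :=
  (dom_appTop_specMap_iff φ).1 (dom_of_sd hf a idx _ c hc w hcov)

theorem sd_of_dom_spec {X : Scheme.{u}} {ι : Type u} {Z : ι → Scheme.{u}} {f : ∀ i, Z i ⟶ X}
    (H : ∀ x : X, ∃ (B : CommRingCat.{u}) (a : Spec B ⟶ X) (_ : IsOpenImmersion a) (J : Type u) (idx : J → ι)
      (C : J → CommRingCat.{u}) (φ : ∀ j, B ⟶ C j) (c : ∀ j, Spec (C j) ⟶ Z (idx j)),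
      (∀ j, c j ≫ f (idx j) = Spec.map (φ j) ≫ a) ∧ x ∈ Set.range a ∧ Dom fun j => (φ j).hom) :
    SD f := sd_of_dom fun x => by
  obtain ⟨B, a, ha, J, idx, C, φ, c, w, hx, hd⟩ := H x
  exact ⟨Spec B, inferInstance, a, ha, J, idx, fun j => Spec (C j), fun j => Spec.map (φ j), c,
    fun j => ⟨inferInstance, w j⟩, hx, (dom_appTop_specMap_iff φ).2 hd⟩

/-- The base changed family. -/
noncomputable def bcFam {X S S' : Scheme.{u}} (p : X ⟶ S) (g : S' ⟶ S) {ι : Type u} {Z : ι → Scheme.{u}}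
    (f : ∀ i, Z i ⟶ X) (i : ι) : pullback (f i ≫ p) g ⟶ pullback p g :=
  pullback.map (f i ≫ p) g p g (f i) (𝟙 S') (𝟙 S) (Category.comp_id _)
    ((Category.comp_id _).trans (Category.id_comp _).symm)

theorem bcFam_fst_apply {X S S' : Scheme.{u}} (p : X ⟶ S) (g : S' ⟶ S) {ι : Type u} {Z : ι → Scheme.{u}}
    (f : ∀ i, Z i ⟶ X) (i : ι) (z : ↥(pullback (f i ≫ p) g)) :
    pullback.fst p g (bcFam p g f i z) = f i (pullback.fst (f i ≫ p) g z) := by
  rw [← Scheme.Hom.comp_apply, ← Scheme.Hom.comp_apply, bcFam]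
  exact congrArg (fun m : pullback (f i ≫ p) g ⟶ X => m z) (pullback.lift_fst _ _ _)

theorem bcFam_snd_apply {X S S' : Scheme.{u}} (p : X ⟶ S) (g : S' ⟶ S) {ι : Type u} {Z : ι → Scheme.{u}}
    (f : ∀ i, Z i ⟶ X) (i : ι) (z : ↥(pullback (f i ≫ p) g)) :
    pullback.snd p g (bcFam p g f i z) = pullback.snd (f i ≫ p) g z := by
  rw [← Scheme.Hom.comp_apply, bcFam]
  exact congrArg (fun m : pullback (f i ≫ p) g ⟶ S' => m z) ((pullback.lift_snd _ _ _).trans (Category.comp_id _))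

section TensorChart

variable (R : Type u) [CommRing R] {B : Type u} [CommRing B] [Algebra R B] (R' : Type u) [CommRing R'] [Algebra R R']
  {S X S' : Scheme.{u}} (p : X ⟶ S) (g : S' ⟶ S) (o : Spec (CommRingCat.of R) ⟶ S)
  (o' : Spec (CommRingCat.of R') ⟶ S')

/-- The chart `Spec (B ⊗ R')` of a base change. -/
noncomputable def tensorChart (a : Spec (CommRingCat.of B) ⟶ X)
    (ha : a ≫ p = Spec.map (CommRingCat.ofHom (algebraMap R B)) ≫ o)
    (ho : o' ≫ g = Spec.map (CommRingCat.ofHom (algebraMap R R')) ≫ o) :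
    Spec (CommRingCat.of (B ⊗[R] R')) ⟶ pullback p g :=
  (pullbackSpecIso R B R').inv ≫ pullback.map _ _ p g a o' o ha.symm ho.symm

variable {R R' p g o o'}

theorem tensorChart_fst (a : Spec (CommRingCat.of B) ⟶ X) (ha ho) :
    tensorChart R R' p g o o' a ha ho ≫ pullback.fst p g =
      Spec.map (CommRingCat.ofHom Algebra.TensorProduct.includeLeftRingHom) ≫ a := by
  simp only [tensorChart, Category.assoc, limit.lift_π, PullbackCone.mk_π_app]
  rw [← Category.assoc, pullbackSpecIso_inv_fst]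

theorem tensorChart_snd (a : Spec (CommRingCat.of B) ⟶ X) (ha ho) :
    tensorChart R R' p g o o' a ha ho ≫ pullback.snd p g =
      Spec.map (CommRingCat.ofHom (Algebra.TensorProduct.includeRight : R' →ₐ[R] B ⊗[R] R').toRingHom) ≫ o' := by
  simp only [tensorChart, Category.assoc, limit.lift_π, PullbackCone.mk_π_app]
  rw [← Category.assoc, pullbackSpecIso_inv_snd]
  rfl

theorem range_tensorChart (a : Spec (CommRingCat.of B) ⟶ X) [Mono o] (ha ho) :
    Set.range (tensorChart R R' p g o o' a ha ho) =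
      pullback.fst p g ⁻¹' Set.range a ∩ pullback.snd p g ⁻¹' Set.range o' := by
  rw [tensorChart, Scheme.Hom.comp_base, TopCat.coe_comp,
    Function.Surjective.range_comp (Scheme.Hom.surjective _), Scheme.Pullback.range_map]

end TensorChart

section BaseChange

variable {R B R' : Type u} [CommRing R] [CommRing B] [Algebra R B] [CommRing R'] [Algebra R R']
  {S X S' : Scheme.{u}} {p : X ⟶ S} {g : S' ⟶ S} {o : Spec (CommRingCat.of R) ⟶ S} [Mono o]
  {o' : Spec (CommRingCat.of R') ⟶ S'} [IsOpenImmersion o'] {a : Spec (CommRingCat.of B) ⟶ X} [IsOpenImmersion a]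
  {ι : Type u} {Z : ι → Scheme.{u}} {f : ∀ i, Z i ⟶ X} {J : Type u} {idx : J → ι} {C : J → Type u}
  [∀ j, CommRing (C j)] [∀ j, Algebra R (C j)] (φ : ∀ j, B →ₐ[R] C j)
  (c : ∀ j, Spec (CommRingCat.of (C j)) ⟶ Z (idx j))

theorem chart_over (ha : a ≫ p = Spec.map (CommRingCat.ofHom (algebraMap R B)) ≫ o)
    (w : ∀ j, c j ≫ f (idx j) = Spec.map (CommRingCat.ofHom (φ j).toRingHom) ≫ a) (j : J) :
    c j ≫ f (idx j) ≫ p = Spec.map (CommRingCat.ofHom (algebraMap R (C j))) ≫ o := by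
  rw [← Category.assoc, w j, Category.assoc, ha, ← Category.assoc, ← Spec.map_comp, ← CommRingCat.ofHom_comp]
  rw [AlgHom.toRingHom_eq_coe, AlgHom.comp_algebraMap]

theorem tensorChart_comm (ha : a ≫ p = Spec.map (CommRingCat.ofHom (algebraMap R B)) ≫ o)
    (ho : o' ≫ g = Spec.map (CommRingCat.ofHom (algebraMap R R')) ≫ o)
    (w : ∀ j, c j ≫ f (idx j) = Spec.map (CommRingCat.ofHom (φ j).toRingHom) ≫ a) (j : J) :
    tensorChart R R' (f (idx j) ≫ p) g o o' (c j) (chart_over φ c ha w j) ho ≫ bcFam p g f (idx j) =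
      Spec.map (CommRingCat.ofHom (Algebra.TensorProduct.map (φ j) (AlgHom.id R R')).toRingHom) ≫
        tensorChart R R' p g o o' a ha ho := by
  apply pullback.hom_ext
  · simp only [bcFam, Category.assoc, limit.lift_π, PullbackCone.mk_π_app]
    rw [← Category.assoc, tensorChart_fst, Category.assoc, w j, tensorChart_fst, ← Category.assoc,
      ← Category.assoc, ← Spec.map_comp, ← Spec.map_comp, ← CommRingCat.ofHom_comp, ← CommRingCat.ofHom_comp]
    congr 3
  · simp only [bcFam, Category.assoc, limit.lift_π, PullbackCone.mk_π_app, Category.comp_id]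
    rw [tensorChart_snd, tensorChart_snd, ← Category.assoc, ← Spec.map_comp, ← CommRingCat.ofHom_comp]
    congr 3
    ext b; simp

theorem dom_tensor_of_sd (ha : a ≫ p = Spec.map (CommRingCat.ofHom (algebraMap R B)) ≫ o)
    (ho : o' ≫ g = Spec.map (CommRingCat.ofHom (algebraMap R R')) ≫ o)
    (hc : ∀ j, IsOpenImmersion (c j))
    (w : ∀ j, c j ≫ f (idx j) = Spec.map (CommRingCat.ofHom (φ j).toRingHom) ≫ a)
    (hcov : ∀ i (z : Z i), f i z ∈ Set.range a → ∃ j, ∃ h : idx j = i, z ∈ Set.range (c j ≫ eqToHom (by rw [h])))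
    (hsd : SD (bcFam p g f)) :
    Dom fun j => (Algebra.TensorProduct.map (φ j) (AlgHom.id R R')).toRingHom := by
  haveI : IsOpenImmersion (tensorChart R R' p g o o' a ha ho) := by unfold tensorChart; infer_instance
  refine dom_of_sd_spec hsd (tensorChart R R' p g o o' a ha ho) idx
    (C := fun j => CommRingCat.of (C j ⊗[R] R'))
    (fun j => CommRingCat.ofHom (Algebra.TensorProduct.map (φ j) (AlgHom.id R R')).toRingHom)
    (fun j => tensorChart R R' _ g o o' (c j) (chart_over φ c ha w j) ho)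
    (fun j => by have := hc j; unfold tensorChart; infer_instance) (tensorChart_comm φ c ha ho w) ?_
  intro i z hz
  rw [range_tensorChart] at hz
  obtain ⟨h1, h2⟩ := hz
  have h1' : f i (pullback.fst (f i ≫ p) g z) ∈ Set.range a := bcFam_fst_apply p g f i z ▸ h1
  have h2' : pullback.snd (f i ≫ p) g z ∈ Set.range o' := bcFam_snd_apply p g f i z ▸ h2
  obtain ⟨j, rfl, hj⟩ := hcov i _ h1'
  refine ⟨j, rfl, ?_⟩
  simp only [eqToHom_refl, Category.comp_id] at hj ⊢
  rw [range_tensorChart]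
  exact ⟨hj, h2'⟩

end BaseChange

/-- Schematic dominance of a base change, from the ring-theoretic statement on charts. -/
theorem sd_bcFam_of_dom {X S S' : Scheme.{u}} (p : X ⟶ S) (g : S' ⟶ S) {ι : Type u} {Z : ι → Scheme.{u}}
    (f : ∀ i, Z i ⟶ X)
    (H : ∀ (R : Type u) [CommRing R] (B : Type u) [CommRing B] [Algebra R B] (R' : Type u) [CommRing R'] [Algebra R R']
      (o : Spec (CommRingCat.of R) ⟶ S) [IsOpenImmersion o] (o' : Spec (CommRingCat.of R') ⟶ S') [IsOpenImmersion o']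
      (a : Spec (CommRingCat.of B) ⟶ X) [IsOpenImmersion a] (J : Type u) (idx : J → ι) (C : J → Type u)
      [∀ j, CommRing (C j)] [∀ j, Algebra R (C j)] (φ : ∀ j, B →ₐ[R] C j)
      (c : ∀ j, Spec (CommRingCat.of (C j)) ⟶ Z (idx j)),
      (∀ j, IsOpenImmersion (c j)) →
      a ≫ p = Spec.map (CommRingCat.ofHom (algebraMap R B)) ≫ o →
      o' ≫ g = Spec.map (CommRingCat.ofHom (algebraMap R R')) ≫ o →
      (∀ j, c j ≫ f (idx j) = Spec.map (CommRingCat.ofHom (φ j).toRingHom) ≫ a) →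
      (∀ i (z : Z i), f i z ∈ Set.range a → ∃ j, ∃ h : idx j = i, z ∈ Set.range (c j ≫ eqToHom (by rw [h]))) →
      Dom fun j => (Algebra.TensorProduct.map (φ j) (AlgHom.id R R')).toRingHom) :
    SD (bcFam p g f) := by
  refine sd_of_dom_spec fun x => ?_
  obtain ⟨y, hy⟩ := S.affineOpenCover.covers (p (pullback.fst p g x))
  let R := S.affineOpenCover.X (S.affineOpenCover.idx (p (pullback.fst p g x)))
  let o : Spec R ⟶ S := S.affineOpenCover.f (S.affineOpenCover.idx (p (pullback.fst p g x)))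
  haveI : IsOpenImmersion o := inferInstance
  obtain ⟨B, a, ρ, _, hxa, ha⟩ := exists_chart_at p o (pullback.fst p g x) ⟨y, hy⟩
  obtain ⟨R', o', ρ', _, hxo, ho⟩ := exists_chart_at g o (pullback.snd p g x) (by
    refine ⟨y, hy.trans ?_⟩
    rw [← Scheme.Hom.comp_apply, ← Scheme.Hom.comp_apply, pullback.condition])
  choose J C c φ hc hcov using fun i => exists_charts (f i) a
  letI : Algebra R B := ρ.hom.toAlgebra
  letI : Algebra R R' := ρ'.hom.toAlgebra
  letI : ∀ j : Σ i, J i, Algebra R (C j.1 j.2) := fun j => ((φ j.1 j.2).hom.comp ρ.hom).toAlgebra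
  let ψ : ∀ j : Σ i, J i, B →ₐ[R] C j.1 j.2 := fun j => AlgHom.mk (φ j.1 j.2).hom fun _ => rfl
  have w : ∀ j : Σ i, J i, c j.1 j.2 ≫ f j.1 = Spec.map (CommRingCat.ofHom (ψ j).toRingHom) ≫ a :=
    fun j => (hc j.1 j.2).2
  refine ⟨CommRingCat.of (B ⊗[R] R'), tensorChart R R' p g o o' a ha ho, ?_, (Σ i, J i), Sigma.fst,
    fun j => CommRingCat.of (C j.1 j.2 ⊗[R] R'), fun j => CommRingCat.ofHom
      (Algebra.TensorProduct.map (ψ j) (AlgHom.id R R')).toRingHom,
    fun j => tensorChart R R' _ g o o' (c j.1 j.2) (chart_over (idx := Sigma.fst) ψ (fun j => c j.1 j.2) ha w j) ho,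
    tensorChart_comm (idx := Sigma.fst) ψ (fun j => c j.1 j.2) ha ho w, ?_, ?_⟩
  · unfold tensorChart; infer_instance
  · rw [range_tensorChart]; exact ⟨hxa, hxo⟩
  · refine H R B R' o o' a (Σ i, J i) Sigma.fst (fun j => C j.1 j.2) ψ (fun j => c j.1 j.2)
      (fun j => (hc j.1 j.2).1) ha ho w fun i z hz => ?_
    obtain ⟨j, hj⟩ := hcov i z hz
    exact ⟨⟨i, j⟩, rfl, by simp only [eqToHom_refl, Category.comp_id]; exact hj⟩

end Groth.SchDom
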