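import Groth.Agent.RelS1H.Model
import Groth.Agent.FlatMorOne.FlatLocusOpen

/-!
# Regularity on one fibre of a flat finitely presented module

An element which is regular on the fibre through a prime `q` is regular at `q` on every tensor
product with a module over the base.
-/

universe u

set_option autoImplicit false

open TensorProduct

namespace Groth.SchDom

open Groth.RelS1H

theorem smulHom_rTensor_apply {A B M : Type u} [CommRing A] [CommRing B] [Algebra A B] [AddCommGroup M] [Module B M]
    [Module A M] [IsScalarTower A B M] (N : Type u) [AddCommGroup N] [Module A N] (b : B) (z : M ⊗[A] N) :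
    (smulHom (M := M) A b).rTensor N z = b • z := by
  induction z with
  | zero => simp
  | tmul m c => simp [smul_tmul']
  | add x y hx hy => rw [map_add, hx, hy, smul_add]

set_option maxHeartbeats 800000 in
/-- Model form: regular on the fibre at `q` gives regular at `q` after any tensor product. -/
theorem exists_kill_of_model {A' A B' B M' M : Type u} [CommRing A'] [CommRing A] [CommRing B'] [CommRing B]
    [Algebra A' A] [Algebra A' B'] [Algebra A B] [IsNoetherianRing B']
    [AddCommGroup M'] [Module B' M'] [Module A' M'] [IsScalarTower A' B' M'] [Module.Finite B' M'] [Module.Flat A' M']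
    [AddCommGroup M] [Module B M] [Module A M] [IsScalarTower A B M] [Module A' M] [IsScalarTower A' A M]
    (β : M' →ₗ[A'] M) (hβ : IsBaseChange A β) (σ : B' →+* B)
    (hσ : ∀ r, σ (algebraMap A' B' r) = algebraMap A B (algebraMap A' A r))
    (hsmul : ∀ (s : B') x, β (s • x) = σ s • β x)
    (a : B) (a' : B') (ha : σ a' = a) (q : Ideal B) [q.IsPrime] (p : Ideal A) [p.IsPrime]
    (hp : p = q.comap (algebraMap A B))
    (h : Function.Injective ((smulHom (M := M) A a).rTensor p.ResidueField))
    (N : Type u) [AddCommGroup N] [Module A N] (z : M ⊗[A] N) (hz : a • z = 0) :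
    ∃ s ∉ q, s • z = 0 := by
  let q' : Ideal B' := q.comap σ
  let p' : Ideal A' := q'.comap (algebraMap A' B')
  have hp' : p' = p.comap (algebraMap A' A) := by
    ext r
    simp [p', q', hp, hσ]
  letI : Algebra p'.ResidueField p.ResidueField :=
    (Ideal.ResidueField.map p' p (algebraMap A' A) hp').toAlgebra
  haveI : IsScalarTower A' p'.ResidueField p.ResidueField := IsScalarTower.of_algebraMap_eq fun r => by
    rw [IsScalarTower.algebraMap_apply A' A p.ResidueField]
    exact (Ideal.ResidueField.map_algebraMap p' p (algebraMap A' A) hp' r).symm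
  let j : p'.ResidueField →ₗ[A'] p.ResidueField :=
    (Algebra.linearMap p'.ResidueField p.ResidueField).restrictScalars A'
  obtain ⟨g, hg⟩ := LinearMap.exists_leftInverse_of_injective (Algebra.linearMap p'.ResidueField p.ResidueField)
    (LinearMap.ker_eq_bot.2 (algebraMap p'.ResidueField p.ResidueField).injective)
  have hjinj : Function.Injective (j.lTensor M') := by
    refine Function.LeftInverse.injective (g := (g.restrictScalars A').lTensor M') fun w => ?_
    rw [← LinearMap.comp_apply, ← LinearMap.lTensor_comp,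
      show g.restrictScalars A' ∘ₗ j = LinearMap.id from LinearMap.ext fun c => LinearMap.congr_fun hg c,
      LinearMap.lTensor_id, LinearMap.id_apply]
  -- `M ⊗[A] N' ≅ M' ⊗[A'] N'` for an `A`-module `N'`
  let f : ∀ (N' : Type u) [AddCommGroup N'] [Module A N'] [Module A' N'] [IsScalarTower A' A N'],
      M ⊗[A] N' ≃ₗ[A'] M' ⊗[A'] N' := fun N' _ _ _ _ =>
    ((TensorProduct.comm A M N').restrictScalars A').trans <|
      ((AlgebraTensorModule.congr (LinearEquiv.refl A N') hβ.equiv.symm).restrictScalars A').trans <|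
        ((AlgebraTensorModule.cancelBaseChange A' A A N' M').restrictScalars A').trans
          (TensorProduct.comm A' N' M')
  have hf : ∀ (N' : Type u) [AddCommGroup N'] [Module A N'] [Module A' N'] [IsScalarTower A' A N'] (x : M') (c : N'),
      (f N').symm (x ⊗ₜ c) = β x ⊗ₜ c := fun N' _ _ _ _ x c => by
    simp [f, IsBaseChange.equiv_tmul]
  have hcomm : ∀ (N' : Type u) [AddCommGroup N'] [Module A N'] [Module A' N'] [IsScalarTower A' A N'] (s : B')
      (w : M' ⊗[A'] N'), (f N').symm (s • w) = σ s • (f N').symm w := fun N' _ _ _ _ s w => by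
    induction w with
    | zero => simp
    | tmul x c => simp [smul_tmul', hf, hsmul]
    | add x y hx hy => simp only [smul_add, map_add, hx, hy]
  have hfib : Function.Injective ((smulHom (M := M') A' a').rTensor p'.ResidueField) := by
    intro v w hvw
    refine hjinj ((f p.ResidueField).symm.injective (h ?_))
    rw [smulHom_rTensor_apply, smulHom_rTensor_apply, ← ha, ← hcomm, ← hcomm]
    congr 1
    have hvw' := congrArg (j.lTensor M') hvw
    have e : ∀ v, j.lTensor M' ((smulHom (M := M') A' a').rTensor p'.ResidueField v) =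
        a' • j.lTensor M' v := fun v => by
      induction v with
      | zero => simp
      | tmul m c => simp [smul_tmul']
      | add x y hx hy => simp only [map_add, smul_add, hx, hy]
    rwa [e, e] at hvw'
  letI : Module A' N := Module.compHom N (algebraMap A' A)
  haveI : IsScalarTower A' A N := IsScalarTower.of_algebraMap_smul fun _ _ => rfl
  obtain ⟨s, hs, hs0⟩ := exists_notMem_smul_eq_zero a' q' p' rfl hfib N (f N z) (by
    apply (f N).symm.injective
    rw [smulHom_rTensor_apply, hcomm, LinearEquiv.symm_apply_apply, map_zero, ha, hz])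
  refine ⟨σ s, hs, ?_⟩
  have := congrArg (f N).symm hs0
  rwa [hcomm, LinearEquiv.symm_apply_apply, map_zero] at this

set_option maxHeartbeats 800000 in
set_option synthInstance.maxHeartbeats 100000 in
/-- An element regular on the fibre through `q` of a flat finitely presented module is regular at `q`
after tensoring with any module over the base. -/
theorem exists_kill_of_fibre_regular {A B M : Type u} [CommRing A] [CommRing B] [Algebra A B]
    [Algebra.FinitePresentation A B] [AddCommGroup M] [Module B M] [Module A M]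
    [IsScalarTower A B M] [Module.FinitePresentation B M] [Module.Flat A M]
    (a : B) (q : Ideal B) [q.IsPrime] (p : Ideal A) [p.IsPrime] (hp : p = q.comap (algebraMap A B))
    (h : Function.Injective ((smulHom (M := M) A a).rTensor p.ResidueField))
    (N : Type u) [AddCommGroup N] [Module A N] (z : M ⊗[A] N) (hz : a • z = 0) :
    ∃ s ∉ q, s • z = 0 := by
  classical
  obtain ⟨R₀, hR₀, S₀, _, _, _, hT, hS₀, hpush, M₀, _, _, _, _, _, _, f, hM₀, hf⟩ :=
    Groth.FlatMorOne.exists_models A B M
  haveI := hR₀
  haveI : IsNoetherianRing R₀ := Algebra.FiniteType.isNoetherianRing ℤ R₀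
  haveI : Algebra.FiniteType R₀ S₀ := Algebra.FiniteType.of_finitePresentation
  haveI := hM₀
  haveI := hpush
  letI : ∀ (C : Type u) [CommRing C] [Algebra R₀ C], Algebra S₀ (C ⊗[R₀] S₀) :=
    fun C _ _ => Algebra.TensorProduct.rightAlgebra
  obtain ⟨A₁, hA₁, hflat⟩ := Groth.FlatMorOne.exists_stage_flat_global (R₀ := R₀) (R := A) (S₀ := S₀) (S := B) hf
  obtain ⟨A₂, hA₂, y, hy⟩ :=
    Groth.FlatMorOne.exists_sMap_eq R₀ S₀ ((Groth.FlatMorOne.pushoutAlgEquiv R₀ A S₀ B).symm a)
  let A' : Subalgebra R₀ A := A₁ ⊔ A₂
  haveI : IsNoetherianRing A' := isNoetherianRing_of_fg (hA₁.sup hA₂)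
  haveI := hflat A' (hA₁.sup hA₂) le_sup_left
  haveI : IsNoetherianRing (Groth.FlatMorOne.SOf R₀ S₀ A') := Algebra.FiniteType.isNoetherianRing A' _
  refine exists_kill_of_model (A' := A') (B' := Groth.FlatMorOne.SOf R₀ S₀ A')
    (Groth.FlatMorOne.stageLinearMap (R₀ := R₀) (R := A) hf A')
    (Groth.FlatMorOne.isBaseChange_stageLinearMap (R₀ := R₀) (R := A) hf A')
    (Groth.FlatMorOne.stageAlgHom R₀ A S₀ B A').toRingHom (fun r => ?_)
    (Groth.FlatMorOne.stageLinearMap_smul (R₀ := R₀) (R := A) hf A') a
    (Groth.FlatMorOne.sMap R₀ S₀ (Subalgebra.inclusion (le_sup_right : A₂ ≤ A')) y) ?_ q p hp h N z hz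
  · show Groth.FlatMorOne.pushoutAlgEquiv R₀ A S₀ B
      (Groth.FlatMorOne.sMap R₀ S₀ (IsScalarTower.toAlgHom R₀ A' A) (r ⊗ₜ[R₀] (1 : S₀))) = _
    rw [Groth.FlatMorOne.sMap_tmul, Groth.FlatMorOne.pushoutAlgEquiv_tmul, map_one, mul_one]
    rfl
  · show Groth.FlatMorOne.pushoutAlgEquiv R₀ A S₀ B
      (Groth.FlatMorOne.sMap R₀ S₀ (IsScalarTower.toAlgHom R₀ A' A) (Groth.FlatMorOne.sMap R₀ S₀ _ y)) = a
    rw [Groth.FlatMorOne.sMap_sMap]
    exact (congrArg _ hy).trans (AlgEquiv.apply_symm_apply _ a)

section Kernel

theorem exists_of_lTensor_eq_zero {R O N N' : Type u} [CommRing R] [AddCommGroup O] [Module R O] [Module.Flat R O]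
    [AddCommGroup N] [Module R N] [AddCommGroup N'] [Module R N'] (g : N →ₗ[R] N') (w : O ⊗[R] N)
    (hw : g.lTensor O w = 0) : ∃ v, (LinearMap.ker g).subtype.lTensor O v = w :=
  ((Module.Flat.lTensor_exact O (LinearMap.exact_subtype_ker_map g)) w).1 hw

variable {B T M O : Type u} [CommRing B] [CommRing T] [Algebra B T] [AddCommGroup M] [Module B M]
  [CommRing O] [Algebra T O] [Algebra B O] [IsScalarTower B T O] [Module.Flat T O]

/-- If every element of `T ⊗ M` killed by `a` is killed by something invertible in the flat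
`T`-algebra `O`, then `a` is regular on `O ⊗ M`. -/
theorem eq_zero_of_smul_eq_zero (a : B)
    (hkill : ∀ z : T ⊗[B] M, algebraMap B T a • z = 0 → ∃ s : B, IsUnit (algebraMap B O s) ∧ s • z = 0)
    (w : O ⊗[B] M) (hw : algebraMap B O a • w = 0) : w = 0 := by
  let e := AlgebraTensorModule.cancelBaseChange B T O O M
  let μ : T ⊗[B] M →ₗ[T] T ⊗[B] M := LinearMap.lsmul T _ (algebraMap B T a)
  obtain ⟨w', rfl⟩ := e.surjective w
  have h1 : μ.lTensor O w' = algebraMap B O a • w' := by
    clear hw
    induction w' using TensorProduct.induction_on with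
    | zero => simp
    | add x y hx hy => simp only [map_add, smul_add, hx, hy]
    | tmul o z =>
      simp only [μ, LinearMap.lTensor_tmul, LinearMap.lsmul_apply, smul_tmul', smul_eq_mul]
      rw [← smul_tmul, Algebra.smul_def, ← IsScalarTower.algebraMap_apply]
  rw [← map_smul, EmbeddingLike.map_eq_zero_iff, ← h1] at hw
  obtain ⟨v, rfl⟩ := exists_of_lTensor_eq_zero μ w' hw
  suffices h0 : (LinearMap.ker μ).subtype.lTensor O v = 0 by rw [h0, map_zero]
  clear hw h1
  induction v using TensorProduct.induction_on with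
  | zero => simp
  | add x y hx hy =>
    rw [map_add, hx, hy, add_zero]
  | tmul o k =>
    obtain ⟨s, hs, hsk⟩ := hkill k.1 k.2
    rw [LinearMap.lTensor_tmul]
    apply hs.smul_eq_zero.1
    rw [smul_tmul', smul_eq_mul, IsScalarTower.algebraMap_apply B T O, ← Algebra.smul_def, smul_tmul,
      algebraMap_smul, Submodule.coe_subtype, hsk, tmul_zero]

end Kernel

end Groth.SchDom
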